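import Cfsg.Agent.TensorWreathOrth.Gap.Slices
import Cfsg.Agent.TensorWreathOrth.Targets
import Cfsg.Agent.AschbacherOrth.NotLeWreath
import Cfsg.Agent.MaxSub.CentralProduct
import Cfsg.Agent.AschbacherQuad.Basic

/-!
# Two factors of even dimension: the stabiliser is maximal in `Ω`
-/

set_option autoImplicit false
set_option linter.unusedSectionVars false

namespace CfsgLib.TWGap

open Matrix Module Cfsg.Geo CfsgLib.Spinor CfsgLib.OrthMax CfsgLib.TensorOrth
open CfsgLib.TensorMax (Idx ten)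
open CfsgLib.TensorSlice (aset_of_structure)
open scoped Kronecker

variable {F : Type*} [Field F] [Fintype F]

/-- What is needed for factors of dimension four. -/
def FourEnd (F : Type*) [Field F] [Fintype F] : Prop :=
  ∀ {k : ℕ} {Q : QuadraticForm F (Idx k k → F)} {B₁ B₂ : LinearMap.BilinForm F (Fin k → F)} {J : Isom Q}
    {M : Subgroup (Isom Q)} (hF : Fl Q B₁ B₂ J), GCtx hF M → k = 4 → M ≤ hF.Nr

/-- **The stabiliser of a tensor square of even dimension is maximal.** -/
theorem isMaximalIn_square_even {ι : Type} [Fintype ι] [DecidableEq ι] (h4end : FourEnd F)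
    (hodd : Odd (Fintype.card F)) (Q : (ι → F) → F) (hQ : IsNondegenerateQuadraticForm Q)
    {k : ℕ} (hke : Even k) (e : ι ≃ (Fin 2 → Fin k)) (P : GL ι F) {f₁ : (Fin k → F) → (Fin k → F) → F}
    (hf : IsSymmetricForm f₁)
    (hsize : (6 ≤ k ∧ IsPlusTypeOn (fun v : Fin k → F => f₁ v v) ⊤) ∨
      (4 ≤ k ∧ ¬ IsPlusTypeOn (fun v : Fin k → F => f₁ v v) ⊤))
    (hT : IsTensorPowerFormStructure id (QuadraticMap.polar Q) f₁ e P) :
    IsMaximalIn (omegaGL Q) (tensorWreathSubgroup k 2 e P ⊓ omegaGL Q) := by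
  classical
  have hk4 : 4 ≤ k := by rcases hsize with h | h <;> omega
  have h2 := CfsgLib.TensorSlice.two_ne_of_odd hodd
  set e' : ι ≃ Fin k × Fin k := e.trans (finTwoArrowEquiv _) with he'
  set Q' := CfsgLib.AschbacherQuad.quadForm hQ with hQ'
  have hT' : IsTensorFormStructure id (QuadraticMap.polar ⇑Q') f₁ f₁ e' P := by
    obtain ⟨c, hc, h⟩ := hT
    refine ⟨c, hc, fun x y => ?_⟩
    have hx : ∀ w : Fin k × Fin k → F, (fun a => w (finTwoArrowEquiv _ a)) ∘ e = w ∘ e' := fun w => rfl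
    have := h (fun a => x (finTwoArrowEquiv _ a)) (fun a => y (finTwoArrowEquiv _ a))
    rw [hx, hx] at this
    refine this.trans (congrArg (c * ·) ?_)
    rw [formOfGram, ← (finTwoArrowEquiv (Fin k)).symm.sum_comp]
    refine Finset.sum_congr rfl fun p _ => ?_
    rw [← (finTwoArrowEquiv (Fin k)).symm.sum_comp]
    refine Finset.sum_congr rfl fun q _ => ?_
    simp [Fin.prod_univ_two, kroneckerMap_apply, finTwoArrowEquiv]
  obtain ⟨c, -, hs⟩ := aset_of_structure (Q := Q') h2 (by omega) (by omega)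
    (CfsgLib.AschbacherQuad.quadForm_nondegenerate hQ) e' P hf hf hT'
  obtain ⟨J, hF⟩ := exists_fl hs hk4 hke (κ := c) fun x y => by
    simp only [bilinOf_apply, one_mul]
  have hpl : k = 4 → NoPlane (bilinOf hf.bilinear (1 : F)) := fun h x y hx hxx hyy hxy => by
    simp only [bilinOf_apply, one_mul] at hxx hyy hxy
    exact (CfsgLib.TWOr.par_even hodd hke hf hsize).plane h x y hx (by rw [CfsgLib.TWOr.om_gramMatrix hf]; exact hxx)
      (by rw [CfsgLib.TWOr.om_gramMatrix hf]; exact hyy) (by rw [CfsgLib.TWOr.om_gramMatrix hf]; exact hxy)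
  set Φ := coordIso e' P with hΦ
  set T := tensorWreathSubgroup k 2 e P
  set S := T.comap Φ.toMonoidHom with hSdef
  have hpt : ∀ xs : Fin 2 → Fin k → F, TensorNonmax.ptmul e P xs
      = AschbacherForms.coords e' P (ten (xs 0) (xs 1)) := fun xs => by
    rw [TensorNonmax.ptmul, TensorNonmax.cvec_apply, AschbacherForms.coords_apply]
    congr 1
    funext i
    simp [ten, he', Fin.prod_univ_two, finTwoArrowEquiv]
  -- the stabiliser of the pair lies in the wreath group
  have hsub : ∀ g ∈ hF.Nr, (g : GL (Idx k k) F) ∈ S := by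
    have hkr : ∀ g ∈ Kr (coordQuad Q' e' P), (g : GL (Idx k k) F) ∈ S := by
      intro g hg
      obtain ⟨A, B, hg⟩ := hg
      refine MaxSub.mem_tensorWreathSubgroup_of (σ := 1) (as := ![A, B]) fun xs => ?_
      rw [hpt, hpt]
      refine (coordIso_mulVec e' P _ _).trans (congrArg _ ?_)
      rw [show ((g : GL (Idx k k) F) : Matrix (Idx k k) (Idx k k) F) = (A : Matrix (Fin k) (Fin k) F) ⊗ₖ
        (B : Matrix (Fin k) (Fin k) F) from hg, CfsgLib.TensorMax.kron_mulVec_ten]
      simp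
    have hJ : (J : GL (Idx k k) F) ∈ S := by
      refine MaxSub.mem_tensorWreathSubgroup_of (σ := Equiv.swap 0 1) (as := 1) fun xs => ?_
      rw [hpt, hpt]
      refine (coordIso_mulVec e' P _ _).trans (congrArg _ ?_)
      rw [show ((J : GL (Idx k k) F) : Matrix (Idx k k) (Idx k k) F) *ᵥ ten (xs 0) (xs 1) = ten (xs 1) (xs 0) from
        hF.flip _ _]
      simp
    rintro g (hg | hg)
    · exact hkr g hg
    · have := S.mul_mem hJ (hkr _ hg)
      rwa [← Subgroup.coe_mul, ← mul_assoc, hF.J_sq, one_mul] at this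
  have hO : (omegaGL ⇑(coordQuad Q' e' P)).map Φ.toMonoidHom = omegaGL ⇑Q' := by
    rw [omegaGL_eq, omegaGL_eq, Subgroup.map_commutator, map_isometryGroup]
  have hmax : IsMaximalIn (omegaGL ⇑(coordQuad Q' e' P)) (S ⊓ omegaGL ⇑(coordQuad Q' e' P)) := by
    refine CfsgLib.OrthMax.isMaximalIn_omega _ ?_ fun M hM g hg hgΩ hgS => ?_
    · by_contra! hall
      have hcard : Fintype.card ι = k * k := by
        rw [Fintype.card_congr e, Fintype.card_fun, Fintype.card_fin, Fintype.card_fin, pow_two]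
      have : 4 * k ≤ k * k := Nat.mul_le_mul_right k hk4
      refine CfsgLib.AschbacherOrth.not_le_wreath_square hQ ?_ (by omega : 3 ≤ k) ?_ e P fun x hx => ?_
      · omega
      · omega
      · have hx' : x ∈ omegaGL ⇑Q' := hx
        rw [← hO] at hx'
        obtain ⟨_, ⟨y, hy, rfl⟩, rfl⟩ := hx'
        exact hall y hy
    · by_contra hne
      set M' := M ⊓ Cfsg.Omega F ⇑(coordQuad Q' e' P) with hM'
      have hne' : ¬ Cfsg.Omega F ⇑(coordQuad Q' e' P) ≤ M' := fun h => hne fun x hx => (h hx).1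
      have hmem : ∀ x ∈ Cfsg.Omega F ⇑(coordQuad Q' e' P), x ∈ hF.Nr → x ∈ M' := fun x hx hxN =>
        ⟨hM x hx (hsub x hxN), hx⟩
      by_cases h : k = 4
      · exact hgS (hsub g (h4end hF (hF.gctx_of_proper hpl hne' hmem inf_le_right) h ⟨hg, hgΩ⟩))
      · exact hgS (hsub g (hF.le_nr_six (by obtain ⟨r, hr⟩ := hke; omega) hne' hmem inf_le_right ⟨hg, hgΩ⟩))
  have h' := CfsgLib.TensorMax.isMaximalIn_map Φ hmax
  rwa [Subgroup.map_inf _ _ _ Φ.injective, hO,
    Subgroup.map_comap_eq_self_of_surjective Φ.surjective] at h'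

end CfsgLib.TWGap
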