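import Cfsg.Agent.TensorOrthSlice.Main
import Cfsg.Agent.Spinor.Omega

/-!
# The square of an even-dimensional orthogonal space: the flip and the wreath stabiliser
-/

set_option autoImplicit false
set_option linter.unusedSectionVars false

namespace CfsgLib.TWGap

open Matrix Module CfsgLib.Spinor CfsgLib.OrthMax CfsgLib.TensorOrth
open CfsgLib.TensorMax (Idx ten krG ten_add_left ten_add_right ten_smul_left ten_smul_right ten_eq_zero
  ten_inj_left ten_inj_right kron_mulVec_ten krG_val IsPure)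
open CfsgLib.TensorSlice (ASet IsOrth exists_orth_basis)
open CfsgLib.TensorUnitary (ten_induction mat_ext_ten)
open scoped Kronecker

variable {F : Type*} [Field F] [Fintype F] {k : ℕ} {Q : QuadraticForm F (Idx k k → F)}
  {B₁ B₂ : LinearMap.BilinForm F (Fin k → F)} {J : Isom Q}

/-- The square of an even-dimensional factor with the flip. -/
structure Fl (Q : QuadraticForm F (Idx k k → F)) (B₁ B₂ : LinearMap.BilinForm F (Fin k → F))
    (J : Isom Q) : Prop where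
  aset : ASet Q B₁ B₂
  flip : ∀ x y, mat Q J *ᵥ ten x y = ten y x
  four : 4 ≤ k
  even : Even k

/-- The exchange of two similar factors. -/
theorem exists_fl (hs : ASet Q B₁ B₂) (h4 : 4 ≤ k) (hk : Even k) {κ : F}
    (hκ : ∀ x y, B₁ x y = κ * B₂ x y) : ∃ J : Isom Q, Fl Q B₁ B₂ J := by
  let e : (Idx k k → F) ≃ₗ[F] (Idx k k → F) := CfsgLib.TensorSlice.swL
  let G : GL (Idx k k) F := Matrix.GeneralLinearGroup.toLin.symm
    (LinearMap.GeneralLinearGroup.ofLinearEquiv e)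
  have hG : ∀ x y, (G : Matrix (Idx k k) (Idx k k) F) *ᵥ ten x y = ten y x := fun x y => by
    show LinearMap.toMatrix' (e : (Idx k k → F) →ₗ[F] (Idx k k → F)) *ᵥ ten x y = _
    rw [LinearMap.toMatrix'_mulVec]
    exact CfsgLib.TensorSlice.swL_ten y x
  have hpol := hs.tset.polar_eq_of_ten (g := (G : Matrix (Idx k k) (Idx k k) F)) fun x y x' y' => by
    rw [hG, hG, hs.tset.polar, hκ, hκ]; ring
  have hQ : ∀ v, Q ((G : Matrix (Idx k k) (Idx k k) F) *ᵥ v) = Q v := fun v => by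
    refine mul_left_cancel₀ hs.two ?_
    rw [← polar_self', ← polar_self', hpol]
  exact ⟨⟨G, fun v _ => hQ v⟩, hs, hG, h4, hk⟩

/-- Elements of `Ω` have determinant one. -/
theorem det_omega {g : Isom Q} (hg : g ∈ Cfsg.Omega F ⇑Q) : (mat Q g).det = 1 := by
  let φ : Isom Q →* Fˣ := (Matrix.GeneralLinearGroup.det).comp (Cfsg.isometryGroup F ⇑Q).subtype
  have h : Cfsg.Omega F ⇑Q ≤ φ.ker := by
    unfold Cfsg.Omega
    exact Abelianization.commutator_subset_ker φ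
  have h1 : φ g = 1 := h hg
  have h2 : ((Matrix.GeneralLinearGroup.det (g : GL (Idx k k) F) : Fˣ) : F) = 1 := by
    rw [show Matrix.GeneralLinearGroup.det (g : GL (Idx k k) F) = φ g from rfl, h1, Units.val_one]
  rwa [Matrix.GeneralLinearGroup.val_det_apply] at h2

theorem omega_conj {g : Isom Q} (hg : g ∈ Cfsg.Omega F ⇑Q) (h : Isom Q) :
    h * g * h⁻¹ ∈ Cfsg.Omega F ⇑Q := by
  have : (Cfsg.Omega F ⇑Q).Normal := by unfold Cfsg.Omega; infer_instance
  exact this.conj_mem g hg h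

namespace Fl

variable (hF : Fl Q B₁ B₂ J)
include hF

theorem ext {g h : Isom Q} (e : ∀ x y, mat Q g *ᵥ ten x y = mat Q h *ᵥ ten x y) : g = h :=
  hF.aset.ext_ten e

omit hF in
theorem mul_vec (g h : Isom Q) (v : Idx k k → F) : mat Q (g * h) *ᵥ v = mat Q g *ᵥ (mat Q h *ᵥ v) := by
  rw [mat_mul, mulVec_mulVec]

theorem kpos : 0 < k := by have := hF.four; omega

theorem J_sq : J * J = 1 :=
  hF.ext fun x y => by rw [mul_vec, hF.flip, hF.flip, mat_one, one_mulVec]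

theorem J_inv : J⁻¹ = J := inv_eq_of_mul_eq_one_right hF.J_sq

theorem prop : ∃ κ : F, κ ≠ 0 ∧ ∀ x y, B₁ x y = κ * B₂ x y := by
  obtain ⟨y₀, y₁, hy⟩ := hF.aset.exists_pair₁
  have h : ∀ x x', B₁ x x' * B₂ y₀ y₁ = B₂ x x' := fun x x' => by
    have h1 := polar_mulVec Q J (ten x y₀) (ten x' y₁)
    rw [hF.flip, hF.flip, hF.aset.tset.polar, hF.aset.tset.polar, hy, one_mul] at h1
    exact h1.symm
  have hne : B₂ y₀ y₁ ≠ 0 := fun h0 => by
    have e : ∀ x x', B₂ x x' = 0 := fun x x' => by rw [← h, h0, mul_zero]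
    obtain ⟨w, hw⟩ := hF.aset.tset.f₂.exists_one
      (show (Pi.single (⟨0, hF.kpos⟩ : Fin k) (1 : F) : Fin k → F) ≠ 0 by simp)
    rw [e] at hw
    exact zero_ne_one hw
  exact ⟨(B₂ y₀ y₁)⁻¹, inv_ne_zero hne, fun x y => by rw [← h x y]; field_simp⟩

theorem zero_iff (x y : Fin k → F) : B₁ x y = 0 ↔ B₂ x y = 0 := by
  obtain ⟨κ, hκ, h⟩ := hF.prop
  rw [h, mul_eq_zero, or_iff_right hκ]

theorem flip_conj_mem {g : Isom Q} (hg : g ∈ Kr Q) : J * g * J ∈ Kr Q := by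
  obtain ⟨S, T, hST⟩ := hg
  refine hF.aset.tset.mem_Kr_of_ten hF.kpos hF.kpos (Matrix.mulVecLin (T : Matrix (Fin k) (Fin k) F))
    (Matrix.mulVecLin (S : Matrix (Fin k) (Fin k) F)) fun x y => ?_
  rw [mul_vec, mul_vec, hF.flip,
    show mat Q g = (S : Matrix (Fin k) (Fin k) F) ⊗ₖ (T : Matrix (Fin k) (Fin k) F) from hST, kron_mulVec_ten,
    hF.flip]
  rfl

/-- The stabiliser of the unordered pair of factors. -/
def Nr : Subgroup (Isom Q) where
  carrier := {g | g ∈ Kr Q ∨ J * g ∈ Kr Q}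
  one_mem' := Or.inl (Kr Q).one_mem
  mul_mem' {g h} hg hh := by
    rcases hg with hg | hg <;> rcases hh with hh | hh
    · exact Or.inl ((Kr Q).mul_mem hg hh)
    · refine Or.inr ?_
      have := (Kr Q).mul_mem (hF.flip_conj_mem hg) hh
      rwa [show J * g * J * (J * h) = J * g * (J * J) * h by group, hF.J_sq, mul_one, mul_assoc] at this
    · exact Or.inr (by rw [← mul_assoc]; exact (Kr Q).mul_mem hg hh)
    · refine Or.inl ?_
      have := (Kr Q).mul_mem (hF.flip_conj_mem hg) hh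
      rwa [show J * (J * g) * J * (J * h) = (J * J) * g * (J * J) * h by group, hF.J_sq, one_mul,
        mul_one] at this
  inv_mem' {g} hg := by
    rcases hg with hg | hg
    · exact Or.inl ((Kr Q).inv_mem hg)
    · refine Or.inr ?_
      have := hF.flip_conj_mem ((Kr Q).inv_mem hg)
      rwa [_root_.mul_inv_rev, hF.J_inv, mul_assoc, mul_assoc, hF.J_sq, mul_one] at this

theorem kr_le_nr : Kr Q ≤ hF.Nr := fun _ h => Or.inl h

theorem J_mem : J ∈ hF.Nr := Or.inr (by rw [hF.J_sq]; exact (Kr Q).one_mem)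

theorem nr_conj {g : Isom Q} : J * g * J⁻¹ ∈ hF.Nr ↔ g ∈ hF.Nr :=
  ⟨fun h => by
    have := hF.Nr.mul_mem (hF.Nr.mul_mem (hF.Nr.inv_mem hF.J_mem) h) hF.J_mem
    rwa [show J⁻¹ * (J * g * J⁻¹) * J = g by group] at this,
  fun h => hF.Nr.mul_mem (hF.Nr.mul_mem hF.J_mem h) (hF.Nr.inv_mem hF.J_mem)⟩

theorem sq_mem_kr {g : Isom Q} (hg : g ∈ hF.Nr) : g * g ∈ Kr Q := by
  rcases hg with hg | hg
  · exact (Kr Q).mul_mem hg hg
  · have := (Kr Q).mul_mem (hF.flip_conj_mem hg) hg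
    rwa [show J * (J * g) * J * (J * g) = (J * J) * g * (J * J) * g by group, hF.J_sq, one_mul, mul_one] at this

/-- An element of the stabiliser mapping one right slice to a right slice lies in `Kr`. -/
theorem mem_kr_of_slice {g : Isom Q} (hg : g ∈ hF.Nr) {c c' : Fin k → F} (hc : c ≠ 0)
    (h : ∀ x, ∃ x', mat Q g *ᵥ ten x c = ten x' c') : g ∈ Kr Q := by
  refine hg.resolve_right fun hJ => ?_
  obtain ⟨A, B, hAB⟩ := hJ
  have hv : ∀ x, mat Q g *ᵥ ten x c =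
      ten ((B : Matrix (Fin k) (Fin k) F) *ᵥ c) ((A : Matrix (Fin k) (Fin k) F) *ᵥ x) := fun x => by
    have h1 : mat Q (J * g) *ᵥ ten x c =
        ((A : Matrix (Fin k) (Fin k) F) ⊗ₖ (B : Matrix (Fin k) (Fin k) F)) *ᵥ ten x c :=
      congrArg (· *ᵥ ten x c) hAB
    rw [kron_mulVec_ten] at h1
    have h2 := congrArg (mat Q J *ᵥ ·) h1
    simp only [← mul_vec, ← mul_assoc, hF.J_sq, one_mul, hF.flip] at h2
    exact h2
  have hB : (B : Matrix (Fin k) (Fin k) F) *ᵥ c ≠ 0 := fun h0 => hc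
    (mulVec_injective_iff_isUnit.mpr B.isUnit (h0.trans (mulVec_zero _).symm))
  obtain ⟨i, hi⟩ := Function.ne_iff.mp hB
  -- all images of `A` are proportional to `c'`
  have hpar : ∀ x, (A : Matrix (Fin k) (Fin k) F) *ᵥ x ∈ Submodule.span F {c'} := fun x => by
    obtain ⟨x', hx'⟩ := h x
    rw [hv] at hx'
    refine Submodule.mem_span_singleton.2 ⟨x' i / ((B : Matrix (Fin k) (Fin k) F) *ᵥ c) i, funext fun j => ?_⟩
    have := congrFun hx' (i, j)
    simp only [ten] at this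
    rw [Pi.smul_apply, smul_eq_mul, div_mul_eq_mul_div, div_eq_iff hi, ← this, mul_comm]
  have hle : LinearMap.range (A : Matrix (Fin k) (Fin k) F).mulVecLin ≤ Submodule.span F {c'} := by
    rintro _ ⟨x, rfl⟩; exact hpar x
  have h1 := (Submodule.finrank_mono hle).trans (finrank_span_le_card _)
  rw [LinearMap.finrank_range_of_inj (mulVec_injective_iff_isUnit.mpr A.isUnit), Module.finrank_fin_fun] at h1
  simp at h1
  have := hF.four
  omega

/-- The factors of an element of `Kr` are similitudes with inverse multipliers. -/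
theorem kr_sim {g : Isom Q} (hg : g ∈ Kr Q) : ∃ (A B : GL (Fin k) F) (μ : F), μ ≠ 0 ∧
    (∀ x y, mat Q g *ᵥ ten x y =
      ten ((A : Matrix (Fin k) (Fin k) F) *ᵥ x) ((B : Matrix (Fin k) (Fin k) F) *ᵥ y)) ∧
    (∀ x x', B₂ ((A : Matrix (Fin k) (Fin k) F) *ᵥ x) ((A : Matrix (Fin k) (Fin k) F) *ᵥ x') = μ⁻¹ * B₂ x x') ∧
    ∀ y y', B₂ ((B : Matrix (Fin k) (Fin k) F) *ᵥ y) ((B : Matrix (Fin k) (Fin k) F) *ᵥ y') = μ * B₂ y y' := by
  obtain ⟨A, B, hAB⟩ := hg
  have hgv : ∀ x y, mat Q g *ᵥ ten x y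
      = ten ((A : Matrix (Fin k) (Fin k) F) *ᵥ x) ((B : Matrix (Fin k) (Fin k) F) *ᵥ y) := fun x y => by
    rw [show mat Q g = (A : Matrix (Fin k) (Fin k) F) ⊗ₖ (B : Matrix (Fin k) (Fin k) F) from hAB,
      kron_mulVec_ten]
  have hiso : ∀ x x' y y', B₁ ((A : Matrix (Fin k) (Fin k) F) *ᵥ x) ((A : Matrix (Fin k) (Fin k) F) *ᵥ x') *
      B₂ ((B : Matrix (Fin k) (Fin k) F) *ᵥ y) ((B : Matrix (Fin k) (Fin k) F) *ᵥ y') = B₁ x x' * B₂ y y' :=
    fun x x' y y' => by rw [← hF.aset.tset.polar, ← hgv, ← hgv, polar_mulVec, hF.aset.tset.polar]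
  obtain ⟨κ, hκ, hκv⟩ := hF.prop
  obtain ⟨x₀, z₀, hxz⟩ := hF.aset.exists_pair₁
  set α := B₁ ((A : Matrix (Fin k) (Fin k) F) *ᵥ x₀) ((A : Matrix (Fin k) (Fin k) F) *ᵥ z₀) with hα
  have hB : ∀ y y', α * B₂ ((B : Matrix (Fin k) (Fin k) F) *ᵥ y) ((B : Matrix (Fin k) (Fin k) F) *ᵥ y')
      = B₂ y y' := fun y y' => by rw [hα, hiso, hxz, one_mul]
  obtain ⟨y₀, hy₀⟩ := hF.aset.tset.f₂.exists_one
    (show (Pi.single (⟨0, hF.kpos⟩ : Fin k) (1 : F) : Fin k → F) ≠ 0 by simp)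
  have hα0 : α ≠ 0 := left_ne_zero_of_mul_eq_one ((hB _ _).trans hy₀)
  refine ⟨A, B, α⁻¹, inv_ne_zero hα0, hgv, fun x x' => ?_, fun y y' => ?_⟩
  · rw [inv_inv]
    have h1 := hiso x x' y₀ (Pi.single (⟨0, hF.kpos⟩ : Fin k) 1)
    rw [hy₀, mul_one, hκv, hκv] at h1
    have h2 := (hB y₀ (Pi.single (⟨0, hF.kpos⟩ : Fin k) 1)).trans hy₀
    refine mul_left_cancel₀ hκ ?_
    linear_combination α * h1 - (κ * B₂ ((A : Matrix (Fin k) (Fin k) F) *ᵥ x) ((A : Matrix (Fin k) (Fin k) F) *ᵥ x')) * h2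
  · refine mul_left_cancel₀ hα0 ?_
    rw [hB, ← mul_assoc, mul_inv_cancel₀ hα0, one_mul]

/-- The action of an isometry on the first factor. -/
noncomputable def kL : ↥(isoG B₂) →* Isom Q := (MulAut.conj J).toMonoidHom.comp hF.aset.kR

theorem kL_eq (T : isoG B₂) : hF.kL T = J * hF.aset.kR T * J := by
  show J * hF.aset.kR T * J⁻¹ = _
  rw [hF.J_inv]

theorem kL_ten (T : isoG B₂) (x y : Fin k → F) :
    mat Q (hF.kL T) *ᵥ ten x y = ten ((T.1 : Matrix (Fin k) (Fin k) F) *ᵥ x) y := by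
  rw [hF.kL_eq, mul_vec, mul_vec, hF.flip, hF.aset.kR_ten, hF.flip]

theorem kL_mem (T : isoG B₂) : hF.kL T ∈ Kr Q := by
  rw [hF.kL_eq]; exact hF.flip_conj_mem (hF.aset.kR_mem T)

theorem LR_comm (S T : isoG B₂) : hF.kL S * hF.aset.kR T = hF.aset.kR T * hF.kL S :=
  hF.ext fun x y => by rw [mul_vec, mul_vec, hF.aset.kR_ten, hF.kL_ten, hF.kL_ten, hF.aset.kR_ten]

/-- The left reflection. -/
noncomputable def L (e : Fin k → F) : Isom Q := hF.kL (hF.aset.rR e)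

theorem L_eq (e : Fin k → F) : hF.L e = J * hF.aset.R e * J := hF.kL_eq _

theorem L_sq (e : Fin k → F) : hF.L e * hF.L e = 1 := by rw [L, ← map_mul, hF.aset.rR_sq, map_one]

theorem L_mem (e : Fin k → F) : hF.L e ∈ Kr Q := hF.kL_mem _

/-- Generated isometries of the factors lie in `Ω`. -/
theorem kR_omega {T : isoG B₂} (hT : T.1 ∈ fgrp B₂ (1 : F)) : hF.aset.kR T ∈ Cfsg.Omega F ⇑Q := by
  obtain ⟨g, hg, he⟩ := hF.aset.tset.right_mem_omega (by
    have := Nat.mul_le_mul hF.four hF.four; omega) hT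
  have : hF.aset.kR T = g := Subtype.ext (by rw [he]; rfl)
  rw [this]; exact hg

theorem kL_omega {T : isoG B₂} (hT : T.1 ∈ fgrp B₂ (1 : F)) : hF.kL T ∈ Cfsg.Omega F ⇑Q :=
  omega_conj (hF.kR_omega hT) J

/-- Two reflections of the same factor. -/
theorem RR_omega {e e' : Fin k → F} (he : B₂ e e ≠ 0) (he' : B₂ e' e' ≠ 0) :
    hF.aset.R e * hF.aset.R e' ∈ Cfsg.Omega F ⇑Q := by
  have hs := hF.aset
  obtain ⟨x, hx⟩ := exists_orth_basis hs.tset.f₁ hs.two
  refine mem_omega_of_isReflProd hs.two ((hs.R_isReflProd hx he).mul (hs.R_isReflProd hx he')) ?_ ?_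
  · rw [List.length_append, List.length_ofFn, List.length_ofFn]; exact ⟨k, rfl⟩
  · rw [List.map_append, List.prod_append, List.map_ofFn, List.map_ofFn, List.prod_ofFn, List.prod_ofFn,
      ← Finset.prod_mul_distrib]
    simp only [Function.comp_apply, hs.quad_ten]
    rw [show (fun i => B₁ (x i) (x i) * B₂ e e / 2 * (B₁ (x i) (x i) * B₂ e' e' / 2))
      = fun i => B₁ (x i) (x i) / 2 * (B₁ (x i) (x i) / 2) * (B₂ e e * B₂ e' e') from funext fun i => by ring,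
      Finset.prod_mul_distrib, Finset.prod_const, Finset.card_univ, Fintype.card_fin]
    refine IsSquare.mul ⟨∏ i, B₁ (x i) (x i) / 2, Finset.prod_mul_distrib⟩ (Even.isSquare_pow hF.even _)

/-- A left and a right reflection. -/
theorem LR_omega {e f : Fin k → F} (he : B₂ e e ≠ 0) (hf : B₂ f f ≠ 0) :
    hF.L e * hF.aset.R f ∈ Cfsg.Omega F ⇑Q := by
  have hc : J * hF.aset.R e * J⁻¹ * (hF.aset.R e)⁻¹ ∈ Cfsg.Omega F ⇑Q :=
    Subgroup.commutator_mem_commutator (Subgroup.mem_top J) (Subgroup.mem_top _)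
  have := (Cfsg.Omega F ⇑Q).mul_mem hc (hF.RR_omega he hf)
  rwa [hF.J_inv, hF.aset.R_inv, ← hF.L_eq, ← mul_assoc, mul_assoc (hF.L e), hF.aset.R_sq, mul_one] at this

/-- Two left reflections. -/
theorem LL_omega {e e' : Fin k → F} (he : B₂ e e ≠ 0) (he' : B₂ e' e' ≠ 0) :
    hF.L e * hF.L e' ∈ Cfsg.Omega F ⇑Q := by
  have := omega_conj (hF.RR_omega he he') J
  rwa [hF.J_inv, show J * (hF.aset.R e * hF.aset.R e') * J = J * hF.aset.R e * J * (J * hF.aset.R e' * J) by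
    rw [show J * hF.aset.R e * J * (J * hF.aset.R e' * J) = J * hF.aset.R e * (J * J) * hF.aset.R e' * J by group,
      hF.J_sq, mul_one]; group, ← hF.L_eq, ← hF.L_eq] at this

/-- A regular root element of the second factor. -/
noncomputable def rtI {c z : Fin k → F} (hc : B₂ c c = 0) (hz : B₂ z c = 0) : isoG B₂ :=
  ⟨hF.aset.tset.f₂.eGL hc hz (-B₂ z z / 2), hF.aset.tset.f₂.fgrp_le (hF.aset.tset.f₂.eGL_mem hc hz (by
    have := hF.aset.two; field_simp; ring))⟩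

theorem rtI_fgrp {c z : Fin k → F} (hc : B₂ c c = 0) (hz : B₂ z c = 0) :
    (hF.rtI hc hz).1 ∈ fgrp B₂ (1 : F) :=
  hF.aset.tset.f₂.eGL_mem hc hz (by have := hF.aset.two; field_simp; ring)

theorem rtI_apply {c z : Fin k → F} (hc : B₂ c c = 0) (hz : B₂ z c = 0) (x : Fin k → F) :
    ((hF.rtI hc hz).1 : Matrix (Fin k) (Fin k) F) *ᵥ x
      = esie B₂ 1 c z (-B₂ z z / 2) x :=
  hF.aset.tset.f₂.eGL_mulVec hc hz _ x

/-- A regular root element of the second factor, as an isometry. -/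
noncomputable def rt {c z : Fin k → F} (hc : B₂ c c = 0) (hz : B₂ z c = 0) : Isom Q :=
  hF.aset.kR (hF.rtI hc hz)

theorem rt_omega {c z : Fin k → F} (hc : B₂ c c = 0) (hz : B₂ z c = 0) : hF.rt hc hz ∈ Cfsg.Omega F ⇑Q :=
  hF.kR_omega (hF.rtI_fgrp hc hz)

theorem rt_kr {c z : Fin k → F} (hc : B₂ c c = 0) (hz : B₂ z c = 0) : hF.rt hc hz ∈ Kr Q :=
  hF.aset.kR_mem _

end Fl

end CfsgLib.TWGap
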