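import Cfsg.Agent.TensorWreathOrth.Gap.Unipotent

/-!
# Conjugates of a regular root element inside the stabiliser
-/

set_option autoImplicit false
set_option linter.unusedSectionVars false

namespace CfsgLib.TWGap

open Matrix Module CfsgLib.Spinor CfsgLib.OrthMax CfsgLib.TensorOrth
open CfsgLib.TensorMax (Idx ten ten_add_left ten_add_right ten_smul_left ten_smul_right ten_eq_zero
  ten_inj_left ten_inj_right)
open CfsgLib.TensorUnitary (ten_induction rowsIn finrank_rowsIn ten_mem_rowsIn)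

variable {F : Type*} [Field F] [Fintype F] {k : ℕ} {Q : QuadraticForm F (Idx k k → F)}
  {B₁ B₂ : LinearMap.BilinForm F (Fin k → F)} {J : Isom Q}

namespace Fl

variable (hF : Fl Q B₁ B₂ J)
include hF

theorem rt_sub_sq {c z : Fin k → F} (hc : B₂ c c = 0) (hz : B₂ z c = 0) (x y : Fin k → F) :
    (mat Q (hF.rt hc hz) - 1) *ᵥ ((mat Q (hF.rt hc hz) - 1) *ᵥ ten x y) =
      ten x ((-(B₂ z z * B₂ y c)) • c) := by
  have e : ∀ x y, (mat Q (hF.rt hc hz) - 1) *ᵥ ten x y =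
      ten x (esie B₂ 1 c z (-B₂ z z / 2) y - y) := fun x y => by
    rw [sub_mulVec, one_mulVec, hF.rt_ten, CfsgLib.TensorSlice.ten_sub_right]
  rw [e, e]
  congr 1
  have := hF.aset.two
  simp only [esie_apply, map_add, map_sub, map_smul, LinearMap.add_apply, LinearMap.sub_apply,
    LinearMap.smul_apply, smul_eq_mul, hc, hz, one_mul, hF.aset.symm₂ c z]
  match_scalars <;> field_simp <;> ring

omit hF in
theorem conj_sub_one (y s : Isom Q) (v : Idx k k → F) :
    (mat Q (y * s * y⁻¹) - 1) *ᵥ (mat Q y *ᵥ v) = mat Q y *ᵥ ((mat Q s - 1) *ᵥ v) := by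
  rw [sub_mulVec, one_mulVec, sub_mulVec, one_mulVec, mulVec_sub, ← mul_vec, ← mul_vec, inv_mul_cancel_right]

/-- An element taking a regular root element to a second-factor element maps its slice to a slice. -/
theorem slice_of_right {y : Isom Q} {c z : Fin k → F} (hc0 : c ≠ 0) (hc : B₂ c c = 0) (hz : B₂ z c = 0)
    (hzz : B₂ z z ≠ 0) {B : Matrix (Fin k) (Fin k) F}
    (hB : ∀ x w, mat Q (y * hF.rt hc hz * y⁻¹) *ᵥ ten x w = ten x (B *ᵥ w)) :
    ∃ w, w ≠ 0 ∧ B₂ w w = 0 ∧ ∀ x, ∃ x', mat Q y *ᵥ ten x c = ten x' w := by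
  classical
  have hs := hF.aset
  set s := hF.rt hc hz with hsd
  set u := y * s * y⁻¹ with hu
  have hu1 : ∀ x w, (mat Q u - 1) *ᵥ ten x w = ten x ((B - 1) *ᵥ w) := fun x w => by
    rw [sub_mulVec, one_mulVec, hB, sub_mulVec, one_mulVec, CfsgLib.TensorSlice.ten_sub_right]
  have hu2 : ∀ v, (mat Q u - 1) *ᵥ ((mat Q u - 1) *ᵥ v) =
      mat Q y *ᵥ ((mat Q s - 1) *ᵥ ((mat Q s - 1) *ᵥ (mat Q y⁻¹ *ᵥ v))) := fun v => by
    conv_lhs => rw [← mulVec_cancel' y v, hu, conj_sub_one, conj_sub_one]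
  have hsl : ∀ v, ∃ x', (mat Q s - 1) *ᵥ ((mat Q s - 1) *ᵥ v) = ten x' c := fun v => by
    induction v using ten_induction with
    | hadd a b ha hb =>
      obtain ⟨a', ha'⟩ := ha
      obtain ⟨b', hb'⟩ := hb
      exact ⟨a' + b', by rw [mulVec_add, mulVec_add, ha', hb', ten_add_left]⟩
    | h0 => exact ⟨0, by rw [mulVec_zero, mulVec_zero, ten_eq_zero.2 (Or.inl rfl)]⟩
    | h x w => exact ⟨_, by rw [hF.rt_sub_sq hc hz, ten_smul_right, ← ten_smul_left]⟩
  obtain ⟨w₀, hw₀⟩ : ∃ w₀, (B - 1) *ᵥ ((B - 1) *ᵥ w₀) ≠ 0 := by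
    by_contra! hall
    have h0 : ∀ v, (mat Q u - 1) *ᵥ ((mat Q u - 1) *ᵥ v) = 0 := fun v => by
      induction v using ten_induction with
      | hadd a b ha hb => rw [mulVec_add, mulVec_add, ha, hb, add_zero]
      | h0 => rw [mulVec_zero, mulVec_zero]
      | h x w => rw [hu1, hu1, hall, ten_eq_zero.2 (Or.inr rfl)]
    obtain ⟨d, -, hdc⟩ := hs.tset.f₂.exists_partner hc0 hc
    obtain ⟨x, hx⟩ := hs.exists_ne₁
    have h1 := h0 (mat Q y *ᵥ ten x d)
    rw [hu2, mulVec_cancel, hsd, hF.rt_sub_sq hc hz, hdc, mul_one] at h1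
    rcases ten_eq_zero.1 (CfsgLib.TensorOrth.mulVec_injective y (h1.trans (mulVec_zero _).symm)) with h | h
    · exact hx h
    · exact hc0 ((smul_eq_zero.1 h).resolve_left (neg_ne_zero.2 hzz))
  set w := (B - 1) *ᵥ ((B - 1) *ᵥ w₀) with hw
  have hw' : ∀ x, ∃ x', ten x w = mat Q y *ᵥ ten x' c := fun x => by
    obtain ⟨x', hx'⟩ := hsl (mat Q y⁻¹ *ᵥ ten x w₀)
    exact ⟨x', by rw [hw, ← hu1, ← hu1, hu2, hx']⟩
  choose g hg using hw'
  let L : (Fin k → F) →ₗ[F] (Fin k → F) :=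
    { toFun := g
      map_add' := fun a b => ten_inj_left hc0 (CfsgLib.TensorOrth.mulVec_injective y (by
        show mat Q y *ᵥ _ = mat Q y *ᵥ _
        rw [ten_add_left, mulVec_add, ← hg, ← hg, ← hg, ten_add_left]))
      map_smul' := fun r a => ten_inj_left hc0 (CfsgLib.TensorOrth.mulVec_injective y (by
        show mat Q y *ᵥ _ = mat Q y *ᵥ _
        rw [RingHom.id_apply, ten_smul_left, mulVec_smul, ← hg, ← hg, ten_smul_left])) }
  have hL : Function.Injective L := fun a b h => ten_inj_left hw₀ (by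
    rw [hg a, hg b, show g a = g b from h])
  refine ⟨w, hw₀, ?_, fun x => ?_⟩
  · obtain ⟨a, b, hab⟩ := hs.exists_pair₁
    have h1 := polar_mulVec Q y (ten (g a) c) (ten (g b) c)
    rw [← hg, ← hg, hs.tset.polar, hs.tset.polar, hab, one_mul, hc, mul_zero] at h1
    exact h1
  · obtain ⟨a, ha⟩ := LinearMap.surjective_of_injective hL x
    exact ⟨a, by rw [hg a]; exact congrArg (fun q => mat Q y *ᵥ ten q c) ha.symm⟩

/-- An element taking a regular root element into the stabiliser maps its slice to a slice. -/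
theorem slice_of_conj (hpl : k = 4 → NoPlane B₂) {y : Isom Q} {c z : Fin k → F} (hc0 : c ≠ 0)
    (hc : B₂ c c = 0) (hz : B₂ z c = 0) (hzz : B₂ z z ≠ 0) (hu : y * hF.rt hc hz * y⁻¹ ∈ Kr Q) :
    (∃ w, w ≠ 0 ∧ B₂ w w = 0 ∧ ∀ x, ∃ x', mat Q y *ᵥ ten x c = ten x' w) ∨
      ∃ γ, γ ≠ 0 ∧ B₂ γ γ = 0 ∧ ∀ x, ∃ x', mat Q y *ᵥ ten x c = ten γ x' := by
  classical
  set p := ringChar F
  have : Fact p.Prime := ⟨CharP.char_is_prime F p⟩
  set s := hF.rt hc hz with hsd
  set u := y * s * y⁻¹ with hud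
  have hup : u ^ p = 1 := by rw [hud, conj_pow, hsd, hF.rt_pow_char hc hz, mul_one, mul_inv_cancel]
  obtain ⟨A, B, hv, hA, hB, hAn, hBn⟩ := hF.exists_unipotent_factors hu hup
  have hone : A = 1 ∨ B = 1 := by
    by_contra! h
    have hlt := hF.rank_lt hpl hv hA hB hAn hBn h.1 h.2
    have hle : LinearMap.range (mat Q u - 1).mulVecLin ≤
        (rowsIn k (Submodule.span F {c, z})).map (mat Q y).mulVecLin := by
      rintro _ ⟨v, rfl⟩
      refine ⟨(mat Q s - 1) *ᵥ (mat Q y⁻¹ *ᵥ v), ?_, ?_⟩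
      · have := hF.rt_sub_mem hc hz (mat Q y⁻¹ *ᵥ v)
        rw [← hsd] at this
        rw [sub_mulVec, one_mulVec]
        exact this
      · rw [mulVecLin_apply, mulVecLin_apply, ← conj_sub_one, mulVec_cancel']
    have h1 := (Submodule.finrank_mono hle).trans (Submodule.finrank_map_le _ _)
    rw [finrank_rowsIn] at h1
    have h2 : finrank F (Submodule.span F {c, z}) ≤ 2 :=
      (finrank_span_le_card ({c, z} : Set (Fin k → F))).trans (by
        rw [Set.toFinset_insert, Set.toFinset_singleton]; exact Finset.card_le_two)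
    have := Nat.mul_le_mul_left k h2
    omega
  rcases hone with h | h
  · subst h
    exact Or.inl (hF.slice_of_right hc0 hc hz hzz fun x w => by rw [← hud, hv, one_mulVec])
  · subst h
    obtain ⟨γ, hγ0, hγ, hmap⟩ := hF.slice_of_right (y := J * y) (B := A) hc0 hc hz hzz fun x w => by
      rw [show J * y * hF.rt hc hz * (J * y)⁻¹ = J * u * J⁻¹ by rw [hud, hsd]; group, hF.J_inv, hF.conj_ten, hv,
        one_mulVec, hF.flip]
    refine Or.inr ⟨γ, hγ0, hγ, fun x => ?_⟩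
    obtain ⟨x', hx'⟩ := hmap x
    refine ⟨x', ?_⟩
    rw [← hF.flip x' γ, ← hx', mul_vec, mulVec_mulVec, ← mat_mul, hF.J_sq, mat_one, one_mulVec]

end Fl

end CfsgLib.TWGap
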