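import Cfsg.Agent.TensorWreathOrth.Gap.Unipotent
import Cfsg.Agent.TensorWreathOrth.Dich
import Cfsg.Agent.TensorWreathOrth.OmegaMain

/-!
# The standing hypotheses from the dichotomy
-/

set_option autoImplicit false
set_option linter.unusedSectionVars false

namespace CfsgLib.TWGap

open Matrix Module CfsgLib.Spinor CfsgLib.OrthMax CfsgLib.TensorOrth CfsgLib.TWOr CfsgLib.TWreath
open CfsgLib.TensorMax (Idx ten)
open CfsgLib.TWSp (om gram wCoordIso wCoordIso_mulVec)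
open scoped Kronecker

variable {F : Type*} [Field F] [Fintype F] {k : ℕ} {Q : QuadraticForm F (Idx k k → F)}
  {B₁ B₂ : LinearMap.BilinForm F (Fin k → F)} {J : Isom Q} {M : Subgroup (Isom Q)}

/-- The index change. -/
def pairE (k : ℕ) : Idx k k ≃ (Fin 2 → Fin k) := (finTwoArrowEquiv (Fin k)).symm

/-- The Gram matrix of the factor. -/
noncomputable def gramB (B : LinearMap.BilinForm F (Fin k → F)) : Matrix (Fin k) (Fin k) F :=
  LinearMap.BilinForm.toMatrix' B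

theorem om_gramB (B : LinearMap.BilinForm F (Fin k → F)) (x y : Fin k → F) : om (gramB B) x y = B x y := by
  rw [← bform_apply, bform, gramB, Matrix.toBilin'_toMatrix']

theorem pten_comp_pairE (xs : Fin 2 → Fin k → F) : pten xs ∘ pairE k = ten (xs 0) (xs 1) := by
  funext p
  simp [pten, ten, pairE, Fin.prod_univ_two, finTwoArrowEquiv]

/-- The form in the other coordinates. -/
noncomputable def quad₂ (Q : QuadraticForm F (Idx k k → F)) : QuadraticForm F ((Fin 2 → Fin k) → F) := Q.comp (pCoords (pairE k) (1 : GL (Idx k k) F))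

/-- The isomorphism of coordinates. -/
noncomputable def Ψ : GL (Fin 2 → Fin k) F ≃* GL (Idx k k) F := wCoordIso (pairE k) 1

namespace Fl

variable (hF : Fl Q B₁ B₂ J)
include hF

theorem oForm : OForm (gramB B₂) := by
  refine ⟨Matrix.ext fun i j => ?_, ?_, hF.aset.two⟩
  · show B₂ _ _ = B₂ _ _
    exact hF.aset.symm₂ _ _
  · have h : (Matrix.toBilin' (gramB B₂)).Nondegenerate := by
      rw [gramB, Matrix.toBilin'_toMatrix']; exact hF.aset.tset.f₂.nondeg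
    rw [isUnit_iff_ne_zero]
    exact Matrix.Nondegenerate.det_ne_zero (Matrix.nondegenerate_toBilin'_iff.1 h)

theorem par (hpl : k = 4 → NoPlane B₂) : Par (gramB B₂) 1 where
  form := hF.oForm
  d_ne := one_ne_zero
  three := by have := hF.four; omega
  five h3 := by have := hF.four; omega
  disc h := absurd hF.even (Nat.not_even_iff_odd.2 h)
  plane h4 x y hx hxx hyy hxy := by
    simp only [om_gramB] at hxx hyy hxy
    exact hpl h4 x y hx hxx hyy hxy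

theorem oq : ∃ c₀ : F, OQ (gramB B₂) (quad₂ Q) c₀ := by
  obtain ⟨c₀, hc₀, hκ⟩ := hF.prop
  refine ⟨c₀, hF.oForm, hc₀, fun x y => ?_⟩
  let L₁ : ((Fin 2 → Fin k) → F) →ₗ[F] ((Fin 2 → Fin k) → F) →ₗ[F] F := QuadraticMap.polarBilin (quad₂ Q)
  let L₂ : ((Fin 2 → Fin k) → F) →ₗ[F] ((Fin 2 → Fin k) → F) →ₗ[F] F :=
    c₀ • Matrix.toBilin' (gram (Fin 2) (gramB B₂))
  suffices h : L₁ = L₂ by
    have := LinearMap.congr_fun₂ h x y
    simpa [L₁, L₂, Matrix.toBilin'_apply'] using this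
  refine LinearMap.ext_basis (Pi.basisFun F _) (Pi.basisFun F _) fun a b => ?_
  simp only [Pi.basisFun_apply, L₁, L₂, LinearMap.smul_apply, Matrix.toBilin'_apply', smul_eq_mul,
    QuadraticMap.polarBilin_apply_apply]
  rw [← pten_single, ← pten_single, form_pten, Fin.prod_univ_two, om_gramB, om_gramB, quad₂]
  simp only [QuadraticMap.polar, QuadraticMap.comp_apply, map_add, pCoords_apply, Units.val_one, one_mulVec,
    pten_comp_pairE]
  have h := hF.aset.tset.polar (Pi.single (a 0) 1) (Pi.single (b 0) 1) (Pi.single (a 1) 1) (Pi.single (b 1) 1)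
  rw [QuadraticMap.polar] at h
  rw [h, hκ]; ring

theorem Ψ_pten (g : GL (Fin 2 → Fin k) F) (xs : Fin 2 → Fin k → F) :
    (Ψ g : Matrix (Idx k k) (Idx k k) F) *ᵥ ten (xs 0) (xs 1) =
      ((g : Matrix (Fin 2 → Fin k) (Fin 2 → Fin k) F) *ᵥ pten xs) ∘ pairE k := by
  have h := wCoordIso_mulVec (pairE k) (1 : GL (Idx k k) F) g (pten xs)
  simp only [Units.val_one, one_mulVec, pten_comp_pairE] at h
  exact h

theorem Ψ_mem {g : GL (Fin 2 → Fin k) F} (hg : g ∈ Cfsg.isometryGroup F ⇑(quad₂ Q)) :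
    Ψ g ∈ Cfsg.isometryGroup F ⇑Q := by
  rw [← map_isometryGroup_pCoords Q (pairE k) 1]
  exact Subgroup.mem_map_of_mem _ hg

theorem Ψ_symm_mem {g : GL (Idx k k) F} (hg : g ∈ Cfsg.isometryGroup F ⇑Q) :
    Ψ.symm g ∈ Cfsg.isometryGroup F ⇑(quad₂ Q) := by
  rw [← map_isometryGroup_pCoords Q (pairE k) 1] at hg
  obtain ⟨x, hx, rfl⟩ := hg
  show Ψ.symm (Ψ x) ∈ _
  rwa [MulEquiv.symm_apply_apply]

theorem Ψ_omega : (Cfsg.Geo.omegaGL ⇑(quad₂ Q)).map Ψ.toMonoidHom = Cfsg.Geo.omegaGL ⇑Q := by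
  rw [TensorOrth.omegaGL_eq, TensorOrth.omegaGL_eq, Subgroup.map_commutator, Ψ, quad₂, map_isometryGroup_pCoords]

/-- Wreath elements stabilise the pair of factors. -/
theorem nr_of_wreath {y : Isom Q} (h : Ψ.symm (y : GL (Idx k k) F) ∈ wreath (Fin 2) k F) : y ∈ hF.Nr := by
  obtain ⟨σ, gs, hgs⟩ := h
  have hv : ∀ x x', mat Q y *ᵥ ten x x' = (((PtG gs * pmG σ : GL (Fin 2 → Fin k) F) :
      Matrix (Fin 2 → Fin k) (Fin 2 → Fin k) F) *ᵥ pten ![x, x']) ∘ pairE k := fun x x' => by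
    rw [← hgs, ← hF.Ψ_pten _ ![x, x'], MulEquiv.apply_symm_apply]
    rfl
  have hk : 0 < k := hF.kpos
  obtain rfl | rfl : σ = 1 ∨ σ = Equiv.swap 0 1 := by
    rcases (show ∀ σ : Equiv.Perm (Fin 2), σ = 1 ∨ σ = Equiv.swap 0 1 by decide) σ with h | h
    · exact Or.inl h
    · exact Or.inr h
  · refine hF.kr_le_nr (hF.aset.tset.mem_Kr_of_ten hk hk (Matrix.mulVecLin (gs 0 : Matrix (Fin k) (Fin k) F))
      (Matrix.mulVecLin (gs 1 : Matrix (Fin k) (Fin k) F)) fun x x' => ?_)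
    rw [hv, map_one, mul_one, PtG_val, Pt_mulVec_pten, pten_comp_pairE]
    rfl
  · refine Or.inr (hF.aset.tset.mem_Kr_of_ten hk hk (Matrix.mulVecLin (gs 1 : Matrix (Fin k) (Fin k) F))
      (Matrix.mulVecLin (gs 0 : Matrix (Fin k) (Fin k) F)) fun x x' => ?_)
    rw [Fl.mul_vec, hv, Units.val_mul, PtG_val, pmG_val, ← mulVec_mulVec, pm_mulVec_pten, Pt_mulVec_pten,
      pten_comp_pairE, hF.flip]
    rfl

theorem embG_zero_ten (g : GL (Fin k) F) (x x' : Fin k → F) :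
    (Ψ (embG 0 g) : Matrix (Idx k k) (Idx k k) F) *ᵥ ten x x' = ten ((g : Matrix (Fin k) (Fin k) F) *ᵥ x) x' := by
  have h := hF.Ψ_pten (embG 0 g) ![x, x']
  rw [embG_val, emb_mulVec_pten, pten_comp_pairE] at h
  simpa using h

theorem embG_one_ten (g : GL (Fin k) F) (x x' : Fin k → F) :
    (Ψ (embG 1 g) : Matrix (Idx k k) (Idx k k) F) *ᵥ ten x x' = ten x ((g : Matrix (Fin k) (Fin k) F) *ᵥ x') := by
  have h := hF.Ψ_pten (embG 1 g) ![x, x']
  rw [embG_val, emb_mulVec_pten, pten_comp_pairE] at h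
  simpa using h

theorem eq_of_ten {g : GL (Idx k k) F} {s : Isom Q}
    (h : ∀ x x', (g : Matrix (Idx k k) (Idx k k) F) *ᵥ ten x x' = mat Q s *ᵥ ten x x') : g = (s : GL (Idx k k) F) :=
  Units.ext (CfsgLib.TensorUnitary.mat_ext_ten h)

theorem refl_eq {e : Fin k → F} (he : B₂ e e ≠ 0) :
    Ψ (embG 0 (refG (gramB B₂) e)) = (hF.L e : GL (Idx k k) F) ∧
      Ψ (embG 1 (refG (gramB B₂) e)) = (hF.aset.R e : GL (Idx k k) F) := by
  have hv : ∀ x, (refG (gramB B₂) e : Matrix (Fin k) (Fin k) F) *ᵥ x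
      = ((hF.aset.rR e).1 : Matrix (Fin k) (Fin k) F) *ᵥ x := fun x => by
    rw [refG_val (by rwa [om_gramB]), refM_mulVec, om_gramB, om_gramB, hF.aset.rR_apply he]
    congr 2
    field_simp
  refine ⟨hF.eq_of_ten fun x x' => ?_, hF.eq_of_ten fun x x' => ?_⟩
  · rw [hF.embG_zero_ten, hv, Fl.L, hF.kL_ten]
  · rw [hF.embG_one_ten, hv, CfsgLib.TensorSlice.ASet.R, hF.aset.kR_ten]

theorem sie_eq {c z : Fin k → F} (hc : B₂ c c = 0) (hz : B₂ z c = 0) :
    Ψ (embG 0 (sieG (gramB B₂) c z)) = (J * hF.rt hc hz * J : Isom Q) ∧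
      Ψ (embG 1 (sieG (gramB B₂) c z)) = (hF.rt hc hz : Isom Q) := by
  have hv : ∀ x, (sieG (gramB B₂) c z : Matrix (Fin k) (Fin k) F) *ᵥ x = esie B₂ 1 c z (-B₂ z z / 2) x := fun x => by
    rw [sieG_val hF.oForm (by rwa [om_gramB]) (by rwa [om_gramB]), sieM_mulVec, esie_apply]
    simp only [om_gramB, one_mul]
    module
  refine ⟨hF.eq_of_ten fun x x' => ?_, hF.eq_of_ten fun x x' => ?_⟩
  · rw [hF.embG_zero_ten, hv, hF.conj_ten, hF.rt_ten, hF.flip]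
  · rw [hF.embG_one_ten, hv, hF.rt_ten]

/-- What `M` shares with a conjugate by an outer reflection stabilises the pair. -/
theorem nr_of_outer (hpl : k = 4 → NoPlane B₂) (hne : ¬ Cfsg.Omega F ⇑Q ≤ M)
    (hmem : ∀ g ∈ Cfsg.Omega F ⇑Q, g ∈ hF.Nr → g ∈ M) (hle : M ≤ Cfsg.Omega F ⇑Q) {x : Isom Q} (hxx : x * x = 1)
    (hxN : x ∈ Kr Q) (hxR : ∀ e, B₂ e e ≠ 0 → x * hF.aset.R e ∈ Cfsg.Omega F ⇑Q)
    (hxL : ∀ e, B₂ e e ≠ 0 → x * hF.L e ∈ Cfsg.Omega F ⇑Q)
    {y : Isom Q} (hy : y ∈ M) (hxy : x * y * x ∈ M) : y ∈ hF.Nr := by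
  classical
  have hxi : x⁻¹ = x := inv_eq_of_mul_eq_one_right hxx
  have hxc : ∀ a : Isom Q, x * (x * a) = a := fun a => by rw [← mul_assoc, hxx, one_mul]
  set N : Subgroup (Isom Q) := M ⊓ M.comap (MulAut.conj x).toMonoidHom with hN
  have hmN : ∀ g, g ∈ N ↔ g ∈ M ∧ x * g * x ∈ M := fun g => by
    refine ⟨fun h => ⟨h.1, ?_⟩, fun h => ⟨h.1, ?_⟩⟩
    · have := h.2
      change x * g * x⁻¹ ∈ M at this
      rwa [hxi] at this
    · show x * g * x⁻¹ ∈ M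
      rw [hxi]; exact h.2
  have hNc : ∀ g ∈ N, x * g * x ∈ N := fun g hg => by
    obtain ⟨h1, h2⟩ := (hmN g).1 hg
    refine (hmN _).2 ⟨h2, ?_⟩
    rwa [show x * (x * g * x) * x = (x * x) * g * (x * x) by group, hxx, one_mul, mul_one]
  have hHN : ∀ g ∈ Cfsg.Omega F ⇑Q, g ∈ Kr Q → g ∈ N := fun g hg hgK => by
    refine (hmN g).2 ⟨hmem g hg (Or.inl hgK), hmem _ ?_ (Or.inl ((Kr Q).mul_mem ((Kr Q).mul_mem hxN hgK) hxN))⟩
    have := omega_conj hg x
    rwa [hxi] at this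
  let Nx : Subgroup (Isom Q) :=
    { carrier := {g | g ∈ N ∨ x * g ∈ N}
      one_mem' := Or.inl N.one_mem
      mul_mem' := fun {a b} ha hb => by
        rcases ha with ha | ha <;> rcases hb with hb | hb
        · exact Or.inl (N.mul_mem ha hb)
        · refine Or.inr ?_
          have := N.mul_mem (hNc a ha) hb
          rwa [show x * a * x * (x * b) = x * a * (x * x) * b by group, hxx, mul_one, mul_assoc] at this
        · exact Or.inr (by rw [← mul_assoc]; exact N.mul_mem ha hb)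
        · refine Or.inl ?_
          have := N.mul_mem (hNc _ ha) hb
          rwa [show x * (x * a) * x * (x * b) = (x * x) * a * (x * x) * b by group, hxx, one_mul, mul_one] at this
      inv_mem' := fun {a} ha => by
        rcases ha with ha | ha
        · exact Or.inl (N.inv_mem ha)
        · refine Or.inr ?_
          have := hNc _ (N.inv_mem ha)
          rwa [_root_.mul_inv_rev, hxi, mul_assoc, mul_assoc, hxx, mul_one] at this }
  have hNxR : ∀ e, B₂ e e ≠ 0 → hF.aset.R e ∈ Nx := fun e he =>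
    Or.inr (hHN _ (hxR e he) ((Kr Q).mul_mem hxN (hF.aset.R_mem e)))
  have hNxL : ∀ e, B₂ e e ≠ 0 → hF.L e ∈ Nx := fun e he =>
    Or.inr (hHN _ (hxL e he) ((Kr Q).mul_mem hxN (hF.L_mem e)))
  set M₁ := (Nx.map (Cfsg.isometryGroup F ⇑Q).subtype).map Ψ.symm.toMonoidHom with hM₁
  have hin : ∀ g ∈ Nx, Ψ.symm (g : GL (Idx k k) F) ∈ M₁ := fun g hg =>
    Subgroup.mem_map_of_mem _ (Subgroup.mem_map_of_mem _ hg)
  obtain ⟨c₀, hO⟩ := hF.oq
  have hP := hF.par hpl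
  have hmk : ∀ (g : GL (Fin 2 → Fin k) F) (s : Isom Q), Ψ g = (s : GL (Idx k k) F) → s ∈ Nx → g ∈ M₁ :=
    fun g s hgs hs => by
      have := hin s hs
      rwa [← hgs, MulEquiv.symm_apply_apply] at this
  have hS : Setting (gramB B₂) 1 M₁ := by
    refine ⟨hP, ?_, fun i e he => ?_, fun i c z hc hz => ?_⟩
    · rintro _ ⟨_, ⟨g, -, rfl⟩, rfl⟩
      exact (hO.isIso_of_mem (hF.Ψ_symm_mem g.2)).mem_gsim
    · have he' : B₂ e e ≠ 0 := by rw [← om_gramB]; exact he.ne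
      rcases Fin.exists_fin_two.1 ⟨i, rfl⟩ with h | h <;> subst h
      · exact hmk _ _ (hF.refl_eq he').1 (hNxL e he')
      · exact hmk _ _ (hF.refl_eq he').2 (hNxR e he')
    · rw [om_gramB] at hc hz
      rcases Fin.exists_fin_two.1 ⟨i, rfl⟩ with h | h <;> subst h
      · refine hmk _ _ (hF.sie_eq hc hz).1 (Or.inl (hHN _ ?_ (hF.flip_conj_mem (hF.rt_kr hc hz))))
        rw [← hF.conj_J]; exact omega_conj (hF.rt_omega hc hz) J
      · exact hmk _ _ (hF.sie_eq hc hz).2 (Or.inl (hHN _ (hF.rt_omega hc hz) (hF.rt_kr hc hz)))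
  have hcyc : Cyc3 M₁ := fun a b c h1 h2 h3 => by omega
  rcases le_wreath_or_seed 2 (Fin 2) (Fintype.card_fin 2) M₁ hS with h | h
  · exact hF.nr_of_wreath (h (hin y (Or.inl ((hmN y).2 ⟨hy, hxy⟩))))
  · refine absurd (fun g hg => ?_) hne
    have hΩ := hO.omega_le_of_seed hS hcyc h
    have hg' : (g : GL (Idx k k) F) ∈ Cfsg.Geo.omegaGL ⇑Q := Subgroup.mem_map_of_mem _ hg
    rw [← hF.Ψ_omega] at hg'
    obtain ⟨z, ⟨z', hz', rfl⟩, hzg⟩ := hg'
    obtain ⟨_, ⟨n, hn, rfl⟩, hne'⟩ := hΩ hz'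
    have hgn : g = n := Subtype.ext (by
      rw [← hzg]
      show Ψ (z' : GL (Fin 2 → Fin k) F) = _
      rw [show (z' : GL (Fin 2 → Fin k) F) = Ψ.symm (n : GL (Idx k k) F) from hne'.symm,
        MulEquiv.apply_symm_apply])
    subst hgn
    rcases hn with hn | hn
    · exact hn.1
    · have hxΩ : x ∈ Cfsg.Omega F ⇑Q := by
        have := (Cfsg.Omega F ⇑Q).mul_mem (hle hn.1) ((Cfsg.Omega F ⇑Q).inv_mem hg)
        rwa [mul_inv_cancel_right] at this
      have := M.mul_mem (hmem x hxΩ (Or.inl hxN)) hn.1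
      rwa [hxc] at this

/-- The standing hypotheses, given the slice property. -/
theorem gctx (hpl : k = 4 → NoPlane B₂) (hne : ¬ Cfsg.Omega F ⇑Q ≤ M)
    (hmem : ∀ g ∈ Cfsg.Omega F ⇑Q, g ∈ hF.Nr → g ∈ M) (hle : M ≤ Cfsg.Omega F ⇑Q)
    (hR : ∀ y ∈ M, ∀ c c' : Fin k → F, c ≠ 0 → B₂ c c = 0 → c' ≠ 0 → B₂ c' c' = 0 →
      (∀ x, ∃ x', mat Q y *ᵥ ten x c = ten x' c') → y ∈ Kr Q)
    (hL : ∀ y ∈ M, ∀ c c' : Fin k → F, c ≠ 0 → B₂ c c = 0 → c' ≠ 0 → B₂ c' c' = 0 →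
      (∀ x, ∃ x', mat Q y *ᵥ ten c x = ten c' x') → y ∈ Kr Q) : GCtx hF M := by
  have hRL : ∀ {e f}, B₂ e e ≠ 0 → B₂ f f ≠ 0 → hF.aset.R f * hF.L e ∈ Cfsg.Omega F ⇑Q := fun {e f} he hf => by
    rw [CfsgLib.TensorSlice.ASet.R, Fl.L, ← hF.LR_comm]; exact hF.LR_omega he hf
  refine ⟨hmem, hle, hpl, fun y hy e he h => ?_, fun y hy e he h => ?_, hR, hL⟩
  · exact hF.nr_of_outer hpl hne hmem hle (hF.aset.R_sq e) (hF.aset.R_mem e)
      (fun f hf => hF.RR_omega he hf) (fun f hf => hRL hf he) hy h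
  · exact hF.nr_of_outer hpl hne hmem hle (hF.L_sq e) (hF.L_mem e)
      (fun f hf => hF.LR_omega he hf) (fun f hf => hF.LL_omega he hf) hy h

end Fl

end CfsgLib.TWGap
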