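import Cfsg.Agent.TensorWreathOrth.Gap.Involution
import Cfsg.Agent.TensorSquareThree.Dihedral

/-!
# No elements outside the stabiliser when the factors have dimension at least six
-/

set_option autoImplicit false
set_option linter.unusedSectionVars false

namespace CfsgLib.TWGap

open Matrix Module CfsgLib.Spinor CfsgLib.OrthMax CfsgLib.TensorOrth
open CfsgLib.TensorMax (Idx ten ten_add_left ten_add_right ten_smul_left ten_smul_right ten_eq_zero
  ten_inj_left ten_inj_right)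
open CfsgLib.TensorUnitary (ten_induction rowsIn finrank_rowsIn ten_mem_rowsIn)

variable {F : Type*} [Field F] [Fintype F] {k : ℕ} {Q : QuadraticForm F (Idx k k → F)}
  {B₁ B₂ : LinearMap.BilinForm F (Fin k → F)} {J : Isom Q} {M : Subgroup (Isom Q)}

namespace Fl

variable (hF : Fl Q B₁ B₂ J)
include hF

theorem kR_inj {T T' : isoG B₂} (h : hF.aset.kR T = hF.aset.kR T') : T = T' := by
  refine hF.aset.isoG_ext fun y => ?_
  obtain ⟨x, hx⟩ := hF.aset.exists_ne₁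
  refine ten_inj_right hx ?_
  rw [← hF.aset.kR_ten, ← hF.aset.kR_ten, h]

theorem kL_inj {T T' : isoG B₂} (h : hF.kL T = hF.kL T') : T = T' := by
  refine hF.kR_inj ?_
  rw [← hF.conj_conj (hF.aset.kR T), ← hF.conj_conj (hF.aset.kR T'), ← hF.kL_eq, ← hF.kL_eq, h]

/-- A map of one factor equal to one of the other is a scalar. -/
theorem scalar_of_kL_eq {S S' : isoG B₂} (h : hF.kL S = hF.aset.kR S') :
    ∃ r : F, ∀ v, (S.1 : Matrix (Fin k) (Fin k) F) *ᵥ v = r • v := by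
  obtain ⟨u, hu⟩ := hF.aset.exists_ne₁
  obtain ⟨y₀, hy₀⟩ := hF.aset.tset.f₂.exists_one hu
  refine ⟨B₂ ((S'.1 : Matrix (Fin k) (Fin k) F) *ᵥ y₀) u, fun v => ?_⟩
  have h1 := congrArg (evB B₂ u) (show mat Q (hF.kL S) *ᵥ ten v y₀ = mat Q (hF.aset.kR S') *ᵥ ten v y₀ by rw [h])
  rwa [hF.kL_ten, hF.aset.kR_ten, evB_ten, evB_ten, hy₀, one_smul] at h1

/-- Conjugates of one-sided elements. -/
theorem conj_kL {n : Isom Q} (hn : n ∈ Kr Q) (T : isoG B₂) : ∃ (A : GL (Fin k) F) (T' : isoG B₂) (μ : F),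
    μ ≠ 0 ∧ n * hF.kL T * n⁻¹ = hF.kL T' ∧ T'.1 = A * T.1 * A⁻¹ ∧
    ∀ x x', B₂ ((A : Matrix (Fin k) (Fin k) F) *ᵥ x) ((A : Matrix (Fin k) (Fin k) F) *ᵥ x') = μ * B₂ x x' := by
  obtain ⟨A, B, μ, hμ, hv, hA, -⟩ := hF.kr_sim hn
  have hAi : ∀ x, (A : Matrix (Fin k) (Fin k) F) *ᵥ ((A⁻¹ : GL (Fin k) F) : Matrix (Fin k) (Fin k) F) *ᵥ x = x :=
    fun x => by rw [mulVec_mulVec, ← Units.val_mul, mul_inv_cancel, Units.val_one, one_mulVec]
  let T' : isoG B₂ := ⟨A * T.1 * A⁻¹, fun x y => by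
    show B₂ (((A * T.1 * A⁻¹ : GL (Fin k) F) : Matrix (Fin k) (Fin k) F) *ᵥ x)
      (((A * T.1 * A⁻¹ : GL (Fin k) F) : Matrix (Fin k) (Fin k) F) *ᵥ y) = B₂ x y
    rw [Units.val_mul, Units.val_mul, ← mulVec_mulVec, ← mulVec_mulVec, ← mulVec_mulVec, ← mulVec_mulVec,
      hA, T.2, ← hA, hAi, hAi]⟩
  refine ⟨A, T', μ⁻¹, inv_ne_zero hμ, mul_inv_eq_iff_eq_mul.2 (hF.ext fun x y => ?_), rfl, hA⟩
  rw [mul_vec, mul_vec, hF.kL_ten, hv, hv, hF.kL_ten, mulVec_mulVec, mulVec_mulVec]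
  congr 2
  rw [← Units.val_mul, ← Units.val_mul]
  congr 1
  show A * T.1 = A * T.1 * A⁻¹ * A
  rw [inv_mul_cancel_right]

/-- A one-sided involution in `Ω` moving a plane. -/
structure Pl (T : isoG B₂) : Prop where
  sq : T * T = 1
  omega : hF.kL T ∈ Cfsg.Omega F ⇑Q
  move : ∃ e f, ∀ x, (T.1 : Matrix (Fin k) (Fin k) F) *ᵥ x - x ∈ Submodule.span F {e, f}
  fixv : ∃ v, v ≠ 0 ∧ (T.1 : Matrix (Fin k) (Fin k) F) *ᵥ v = v
  negv : ∃ v, v ≠ 0 ∧ (T.1 : Matrix (Fin k) (Fin k) F) *ᵥ v = -v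

theorem pl_rank {T : isoG B₂} (hT : hF.Pl T) :
    finrank F (LinearMap.range (mat Q (hF.kL T) - 1).mulVecLin) ≤ k * 2 := by
  classical
  obtain ⟨e, f, hef⟩ := hT.move
  have hR : ∀ v, mat Q (hF.aset.kR T) *ᵥ v - v ∈ rowsIn k (Submodule.span F {e, f}) := fun v => by
    induction v using ten_induction with
    | hadd v w hv hw => rw [mulVec_add, add_sub_add_comm]; exact Submodule.add_mem _ hv hw
    | h0 => rw [mulVec_zero, sub_zero]; exact Submodule.zero_mem _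
    | h x y => rw [hF.aset.kR_ten, ← CfsgLib.TensorSlice.ten_sub_right]; exact ten_mem_rowsIn x (hef y)
  have hle : LinearMap.range (mat Q (hF.kL T) - 1).mulVecLin ≤
      (rowsIn k (Submodule.span F {e, f})).map (mat Q J).mulVecLin := by
    rintro _ ⟨v, rfl⟩
    refine ⟨_, hR (mat Q J *ᵥ v), ?_⟩
    rw [mulVecLin_apply, mulVecLin_apply, sub_mulVec, one_mulVec, hF.kL_eq, mul_vec, mul_vec, mulVec_sub,
      ← mul_vec J J, hF.J_sq, mat_one, one_mulVec]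
  have h1 := (Submodule.finrank_mono hle).trans (Submodule.finrank_map_le _ _)
  rw [finrank_rowsIn] at h1
  have h2 : finrank F (Submodule.span F {e, f}) ≤ 2 :=
    (finrank_span_le_card ({e, f} : Set (Fin k → F))).trans (by
      rw [Set.toFinset_insert, Set.toFinset_singleton]; exact Finset.card_le_two)
  have := Nat.mul_le_mul_left k h2
  omega

omit hF in
theorem rank_conj (m s : Isom Q) : finrank F (LinearMap.range (mat Q (m * s * m⁻¹) - 1).mulVecLin) ≤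
    finrank F (LinearMap.range (mat Q s - 1).mulVecLin) := by
  refine le_trans (Submodule.finrank_mono ?_) (Submodule.finrank_map_le (mat Q m).mulVecLin _)
  rintro _ ⟨v, rfl⟩
  refine ⟨(mat Q s - 1) *ᵥ (mat Q m⁻¹ *ᵥ v), LinearMap.mem_range.2 ⟨_, rfl⟩, ?_⟩
  rw [mulVecLin_apply, mulVecLin_apply, ← conj_sub_one, mulVec_cancel']

/-- The negative of an involution moving a plane fixes little. -/
theorem neg_ne_conj (h6 : 6 ≤ k) {T R T' : isoG B₂} (hT : hF.Pl T) (hR : hF.Pl R) {A : GL (Fin k) F}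
    (hA : T'.1 = A * R.1 * A⁻¹) (hneg : ∀ x, (T'.1 : Matrix (Fin k) (Fin k) F) *ᵥ x =
      -((T.1 : Matrix (Fin k) (Fin k) F) *ᵥ x)) : False := by
  classical
  have h2 := hF.aset.two
  obtain ⟨e, f, hef⟩ := hR.move
  obtain ⟨e', f', hef'⟩ := hT.move
  set X := (T.1 : Matrix (Fin k) (Fin k) F)
  have hrk := LinearMap.finrank_range_add_finrank_ker (X.mulVecLin - LinearMap.id)
  rw [Module.finrank_fin_fun] at hrk
  have hsp : ∀ a b : Fin k → F, finrank F (Submodule.span F {a, b}) ≤ 2 := fun a b =>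
    (finrank_span_le_card ({a, b} : Set (Fin k → F))).trans (by
      rw [Set.toFinset_insert, Set.toFinset_singleton]; exact Finset.card_le_two)
  have h1 : finrank F (LinearMap.range (X.mulVecLin - LinearMap.id)) ≤ 2 :=
    le_trans (Submodule.finrank_mono (by rintro _ ⟨x, rfl⟩; exact hef' x)) (hsp e' f')
  have hle : LinearMap.ker (X.mulVecLin - LinearMap.id) ≤
      (Submodule.span F {e, f}).map (A : Matrix (Fin k) (Fin k) F).mulVecLin := fun x hx => by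
    have hx' : X *ᵥ x = x := sub_eq_zero.1 hx
    set y := ((A⁻¹ : GL (Fin k) F) : Matrix (Fin k) (Fin k) F) *ᵥ x with hy
    have hAy : (A : Matrix (Fin k) (Fin k) F) *ᵥ y = x := by
      rw [hy, mulVec_mulVec, ← Units.val_mul, mul_inv_cancel, Units.val_one, one_mulVec]
    have hRy : (R.1 : Matrix (Fin k) (Fin k) F) *ᵥ y = -y := by
      have h3 := hneg x
      rw [hA, hx', Units.val_mul, Units.val_mul, ← mulVec_mulVec, ← mulVec_mulVec, ← hy] at h3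
      refine mulVec_injective_iff_isUnit.mpr A.isUnit ?_
      show (A : Matrix (Fin k) (Fin k) F) *ᵥ _ = (A : Matrix (Fin k) (Fin k) F) *ᵥ _
      rw [h3, mulVec_neg, hAy]
    refine ⟨y, ?_, hAy⟩
    have h4 := Submodule.smul_mem _ (-(2 : F)⁻¹) (hef y)
    rw [hRy] at h4
    have e1 : (-(2 : F)⁻¹) • (-y - y) = y := by
      match_scalars; field_simp; ring
    rwa [e1] at h4
  have h3 := (Submodule.finrank_mono hle).trans (Submodule.finrank_map_le _ _)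
  have := hsp e f
  omega

/-- The planes. -/
theorem exists_planes (h6 : 6 ≤ k) : ∃ (T₁ T₂ : isoG B₂) (e w : Fin k → F), hF.Pl T₁ ∧ hF.Pl T₂ ∧
    T₁ * T₂ = T₂ * T₁ ∧ (∀ γ, B₂ γ γ = 0 → (T₁.1 : Matrix (Fin k) (Fin k) F) *ᵥ γ = -γ → γ = 0) ∧
    (∃ γ, γ ≠ 0 ∧ B₂ γ γ = 0 ∧ (T₂.1 : Matrix (Fin k) (Fin k) F) *ᵥ γ = -γ) ∧
    e ≠ 0 ∧ (T₁.1 : Matrix (Fin k) (Fin k) F) *ᵥ e = -e ∧ (T₂.1 : Matrix (Fin k) (Fin k) F) *ᵥ e = e ∧
    w ≠ 0 ∧ (T₁.1 : Matrix (Fin k) (Fin k) F) *ᵥ w = w ∧ (T₂.1 : Matrix (Fin k) (Fin k) F) *ᵥ w = w := by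
  classical
  have hs := hF.aset
  have h2 := hs.two
  have hB := hs.tset.f₂
  obtain ⟨c, -, hc0, hc⟩ := hB.exists_iso ⊤ (by rw [finrank_top, Module.finrank_fin_fun]; omega)
  obtain ⟨d, hd, hdc⟩ := hB.exists_partner hc0 hc
  have hcd : B₂ c d = 1 := by rw [hs.symm₂, hdc]
  set W := cperp B₂ c ⊓ cperp B₂ d
  have hW : k ≤ finrank F W + 2 := by
    have h1 := hB.finrank_cperp hc0
    have h3 := hB.finrank_le_inf (cperp B₂ c) d
    change k ≤ finrank F (cperp B₂ c ⊓ cperp B₂ d : Submodule F (Fin k → F)) + 2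
    omega
  obtain ⟨u, hu, hu0, huu⟩ := hB.exists_iso W (by omega)
  obtain ⟨huc, hud⟩ := hu
  change B₂ u c = 0 at huc
  change B₂ u d = 0 at hud
  obtain ⟨v₀, hv₀⟩ := hB.exists_one hu0
  have hpr := hB.sub_mem_pair hc hd hdc v₀
  obtain ⟨v, hvW, hvv, hvu⟩ := hB.exists_partner_in (K := W) ⟨mem_cperp.2 huc, mem_cperp.2 hud⟩ hpr huu (by
    simp [hv₀, show B₂ c u = 0 by rw [hs.symm₂]; exact huc, show B₂ d u = 0 by rw [hs.symm₂]; exact hud])
  obtain ⟨hvc, hvd⟩ := hvW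
  change B₂ v c = 0 at hvc
  change B₂ v d = 0 at hvd
  have huv : B₂ u v = 1 := by rw [hs.symm₂, hvu]
  set W' := W ⊓ cperp B₂ u ⊓ cperp B₂ v
  -- an anisotropic vector orthogonal to both pairs
  obtain ⟨z, hz, hzz⟩ : ∃ z ∈ W', B₂ z z ≠ 0 := by
    by_contra! hall
    obtain ⟨x, hx, hx0⟩ := (Submodule.ne_bot_iff _).1 (show W' ≠ ⊥ from fun h => by
      have h1 := hB.finrank_le_inf W u
      have h3 := hB.finrank_le_inf (W ⊓ cperp B₂ u) v
      change W ⊓ cperp B₂ u ⊓ cperp B₂ v = ⊥ at h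
      rw [h, finrank_bot] at h3
      omega)
    obtain ⟨y, hy⟩ := hB.exists_one hx0
    obtain ⟨⟨⟨hxc, hxd⟩, hxu⟩, hxv⟩ := id hx
    change B₂ x c = 0 at hxc
    change B₂ x d = 0 at hxd
    change B₂ x u = 0 at hxu
    change B₂ x v = 0 at hxv
    set y₁ := y - B₂ y c • d - (1 * B₂ y d) • c with hy₁
    set y₂ := y₁ - B₂ y₁ u • v - (1 * B₂ y₁ v) • u with hy₂
    have hy₁W : y₁ ∈ W := hB.sub_mem_pair hc hd hdc y
    have hy₂W : y₂ ∈ W' := by
      have h := hB.sub_mem_pair huu hvv hvu y₁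
      exact ⟨⟨W.sub_mem (W.sub_mem hy₁W (W.smul_mem _ ⟨mem_cperp.2 hvc, mem_cperp.2 hvd⟩))
        (W.smul_mem _ ⟨mem_cperp.2 huc, mem_cperp.2 hud⟩), h.1⟩, h.2⟩
    have e : B₂ y₂ x = 1 := by
      simp [hy₂, hy₁, hy, hs.symm₂ d x, hs.symm₂ c x, hs.symm₂ u x, hs.symm₂ v x, hxc, hxd, hxu, hxv]
    have h := hall _ (W'.add_mem hy₂W hx)
    simp only [map_add, LinearMap.add_apply, hall _ hy₂W, hall _ hx, hs.symm₂ x y₂, e] at h
    exact h2 (by linear_combination h)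
  obtain ⟨⟨⟨hzc, hzd⟩, hzu⟩, hzv⟩ := hz
  change B₂ z c = 0 at hzc
  change B₂ z d = 0 at hzd
  change B₂ z u = 0 at hzu
  change B₂ z v = 0 at hzv
  obtain ⟨ν, hν⟩ := FiniteField.exists_nonsquare (F := F) (fun h => h2 (by
    have := (ringChar.spec F 2).mpr (by rw [h])
    exact_mod_cast this))
  have hν0 : ν ≠ 0 := fun h => hν (h ▸ ⟨0, (mul_zero 0).symm⟩)
  obtain ⟨a, b, hab⟩ := FiniteField.exists_root_sum_quadratic
    (f := Polynomial.C (-2 : F) * Polynomial.X ^ 2)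
    (g := Polynomial.C (B₂ z z) * Polynomial.X ^ 2 - Polynomial.C (-2 * ν))
    (Polynomial.degree_C_mul_X_pow 2 (neg_ne_zero.2 h2)) (by
      rw [Polynomial.degree_sub_eq_left_of_degree_lt, Polynomial.degree_C_mul_X_pow 2 hzz]; · rfl
      rw [Polynomial.degree_C_mul_X_pow 2 hzz, Polynomial.degree_C (mul_ne_zero (neg_ne_zero.2 h2) hν0)]; decide)
    (FiniteField.odd_card_of_char_ne_two fun h => h2 (by
      have := (ringChar.spec F 2).mpr (by rw [h])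
      exact_mod_cast this))
  simp only [Polynomial.eval_mul, Polynomial.eval_C, Polynomial.eval_pow, Polynomial.eval_X,
    Polynomial.eval_sub] at hab
  set e := u + v with he
  set f := a • (u - v) + b • z with hf
  set p := c + d with hp
  set m := c - d with hm
  have hee : B₂ e e = 2 := by simp [he, huu, hvv, huv, hvu]; norm_num
  have hff : B₂ f f = -2 * ν := by
    simp [hf, huu, hvv, huv, hvu, hzu, hzv, hs.symm₂ u z, hs.symm₂ v z]
    linear_combination hab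
  have hef : B₂ e f = 0 := by
    simp [he, hf, huu, hvv, huv, hvu, hs.symm₂ u z, hs.symm₂ v z, hzu, hzv]
  have hpp : B₂ p p = 2 := by simp [hp, hc, hd, hcd, hdc]; norm_num
  have hmm : B₂ m m = -2 := by simp [hm, hc, hd, hcd, hdc]; norm_num
  have hpm : B₂ p m = 0 := by simp [hp, hm, hc, hd, hcd, hdc]
  have he0 : B₂ e e ≠ 0 := by rw [hee]; exact h2
  have hf0 : B₂ f f ≠ 0 := by rw [hff]; exact mul_ne_zero (neg_ne_zero.2 h2) hν0
  have hp0 : B₂ p p ≠ 0 := by rw [hpp]; exact h2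
  have hm0 : B₂ m m ≠ 0 := by rw [hmm]; exact neg_ne_zero.2 h2
  have hperp : ∀ x, (B₂ x c = 0 ∧ B₂ x d = 0) → B₂ x p = 0 ∧ B₂ x m = 0 := fun x hx => by
    simp [hp, hm, hx.1, hx.2]
  have hep := hperp e ⟨by simp [he, huc, hvc], by simp [he, hud, hvd]⟩
  have hfp := hperp f ⟨by simp [hf, huc, hvc, hzc], by simp [hf, hud, hvd, hzd]⟩
  -- a reflection product
  have pl : ∀ e f : Fin k → F, B₂ e e ≠ 0 → B₂ f f ≠ 0 → B₂ e f = 0 →
      ∀ v, v ≠ 0 → B₂ v e = 0 → B₂ v f = 0 → hF.Pl (hs.rR e * hs.rR f) := by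
    intro e f he hf hef v hv hve hvf
    have hfe : B₂ f e = 0 := by rw [hs.symm₂, hef]
    have hv' : ∀ x, ((hs.rR e * hs.rR f).1 : Matrix (Fin k) (Fin k) F) *ᵥ x =
        ((hs.rR e).1 : Matrix (Fin k) (Fin k) F) *ᵥ (((hs.rR f).1 : Matrix (Fin k) (Fin k) F) *ᵥ x) := fun x => by
      rw [Subgroup.coe_mul, Units.val_mul, ← mulVec_mulVec]
    have hcomm : hs.rR e * hs.rR f = hs.rR f * hs.rR e := by
      have h := hs.rR_conj (hs.rR e) hf
      rw [hs.rR_fix he hfe] at h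
      exact mul_inv_eq_iff_eq_mul.1 h
    refine ⟨?_, by rw [map_mul]; exact hF.LL_omega he hf, ⟨e, f, fun x => ?_⟩, ⟨v, hv, ?_⟩, ⟨e, ?_, ?_⟩⟩
    · rw [show hs.rR e * hs.rR f * (hs.rR e * hs.rR f) = hs.rR e * hs.rR f * (hs.rR f * hs.rR e) by rw [hcomm],
        mul_assoc, ← mul_assoc (hs.rR f) (hs.rR f), hs.rR_sq, one_mul, hs.rR_sq]
    · rw [hv', hs.rR_apply hf, hs.rR_apply he]
      refine Submodule.mem_span_pair.2 ⟨-(2 * B₂ (x - (2 * B₂ x f / B₂ f f) • f) e / B₂ e e),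
        -(2 * B₂ x f / B₂ f f), ?_⟩
      module
    · rw [hv', hs.rR_fix hf hvf, hs.rR_fix he hve]
    · exact fun h => he (by simp [h])
    · rw [hv', hs.rR_fix hf hef, hs.rR_self he]
  have hne : ∀ x : Fin k → F, B₂ x x ≠ 0 → x ≠ 0 := fun x hx h => hx (by simp [h])
  obtain ⟨w, hwW, hw0⟩ := (Submodule.ne_bot_iff _).1 (show W ⊓ cperp B₂ e ⊓ cperp B₂ f ≠ ⊥ from fun h => by
    have h1 := hB.finrank_le_inf W e
    have h3 := hB.finrank_le_inf (W ⊓ cperp B₂ e) f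
    rw [h, finrank_bot] at h3
    omega)
  obtain ⟨⟨⟨hwc, hwd⟩, hwe⟩, hwf⟩ := hwW
  change B₂ w c = 0 at hwc
  change B₂ w d = 0 at hwd
  change B₂ w e = 0 at hwe
  change B₂ w f = 0 at hwf
  obtain ⟨hwp, hwm⟩ := hperp w ⟨hwc, hwd⟩
  have hpe : B₂ p e = 0 := by rw [hs.symm₂, hep.1]
  have hme : B₂ m e = 0 := by rw [hs.symm₂, hep.2]
  have hpf : B₂ p f = 0 := by rw [hs.symm₂, hfp.1]
  have hmf : B₂ m f = 0 := by rw [hs.symm₂, hfp.2]
  have hP₁ := pl e f he0 hf0 hef w hw0 hwe hwf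
  have hP₂ := pl p m hp0 hm0 hpm w hw0 hwp hwm
  have hc12 : ∀ x y : Fin k → F, B₂ x x ≠ 0 → B₂ y y ≠ 0 → B₂ y x = 0 → hs.rR x * hs.rR y = hs.rR y * hs.rR x :=
    fun x y hx hy hyx => by
      have h := hs.rR_conj (hs.rR x) hy
      rw [hs.rR_fix hx hyx] at h
      exact mul_inv_eq_iff_eq_mul.1 h
  refine ⟨_, _, e, w, hP₁, hP₂, ?_, fun γ hγ hneg => ?_, ⟨c, hc0, hc, ?_⟩, hne e he0, ?_, ?_, hw0, ?_, ?_⟩
  · have c1 : Commute (hs.rR e) (hs.rR p) := hc12 e p he0 hp0 hpe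
    have c2 : Commute (hs.rR e) (hs.rR m) := hc12 e m he0 hm0 hme
    have c3 : Commute (hs.rR f) (hs.rR p) := hc12 f p hf0 hp0 hpf
    have c4 : Commute (hs.rR f) (hs.rR m) := hc12 f m hf0 hm0 hmf
    exact ((c1.mul_right c2).mul_left (c3.mul_right c4)).eq
  · obtain ⟨-, -, -, -, -⟩ := hP₁
    have hm' : γ ∈ Submodule.span F {e, f} := by
      have h4 := (Submodule.span F {e, f}).smul_mem (-(2 : F)⁻¹)
        (show ((hs.rR e * hs.rR f).1 : Matrix (Fin k) (Fin k) F) *ᵥ γ - γ ∈ _ by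
          rw [Subgroup.coe_mul, Units.val_mul, ← mulVec_mulVec, hs.rR_apply hf0, hs.rR_apply he0]
          refine Submodule.mem_span_pair.2 ⟨-(2 * B₂ (γ - (2 * B₂ γ f / B₂ f f) • f) e / B₂ e e),
            -(2 * B₂ γ f / B₂ f f), ?_⟩
          module)
      rw [hneg] at h4
      have e1 : (-(2 : F)⁻¹) • (-γ - γ) = γ := by match_scalars; field_simp; ring
      rwa [e1] at h4
    obtain ⟨r, s, rfl⟩ := Submodule.mem_span_pair.1 hm'
    simp only [map_add, map_smul, LinearMap.add_apply, LinearMap.smul_apply, smul_eq_mul, hee, hff, hef,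
      hs.symm₂ f e] at hγ
    have h' : r * r = ν * (s * s) := mul_left_cancel₀ h2 (by linear_combination hγ)
    have hs0 : s = 0 := by
      by_contra hs0
      exact hν ⟨r / s, by field_simp; linear_combination -h'⟩
    subst hs0
    rw [mul_zero, mul_zero, mul_self_eq_zero] at h'
    rw [h', zero_smul, zero_smul, add_zero]
  · rw [Subgroup.coe_mul, Units.val_mul, ← mulVec_mulVec]
    have ec : c = (2 : F)⁻¹ • p + (2 : F)⁻¹ • m := by rw [hp, hm]; match_scalars <;> field_simp <;> ring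
    conv_lhs => rw [ec]
    rw [mulVec_add, mulVec_smul, mulVec_smul, hs.rR_fix hm0 hpm, hs.rR_self hm0, mulVec_add, mulVec_smul,
      mulVec_smul, mulVec_neg, hs.rR_self hp0, hs.rR_fix hp0 (show B₂ m p = 0 by rw [hs.symm₂, hpm])]
    conv_rhs => rw [ec]
    module
  · rw [Subgroup.coe_mul, Units.val_mul, ← mulVec_mulVec, hs.rR_fix hf0 hef, hs.rR_self he0]
  · rw [Subgroup.coe_mul, Units.val_mul, ← mulVec_mulVec, hs.rR_fix hm0 hep.2, hs.rR_fix hp0 hep.1]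
  · rw [Subgroup.coe_mul, Units.val_mul, ← mulVec_mulVec, hs.rR_fix hf0 hwf, hs.rR_fix he0 hwe]
  · rw [Subgroup.coe_mul, Units.val_mul, ← mulVec_mulVec, hs.rR_fix hm0 hwm, hs.rR_fix hp0 hwp]

end Fl

namespace GCtx

variable {hF : Fl Q B₁ B₂ J} (hG : GCtx hF M)
include hG

theorem mem_nr_of_fuse' {y : Isom Q} (hy : y ∈ M) {c z : Fin k → F} (hc0 : c ≠ 0) (hc : B₂ c c = 0)
    (hz : B₂ z c = 0) (hzz : B₂ z z ≠ 0) (hu : y * hF.rt hc hz * y⁻¹ ∈ hF.Nr) : y ∈ hF.Nr := by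
  classical
  set p := ringChar F
  have : Fact p.Prime := ⟨CharP.char_is_prime F p⟩
  have hp2 : p ≠ 2 := fun hp => hF.aset.two (by
    have := (ringChar.spec F 2).mpr (by rw [show ringChar F = 2 from hp])
    exact_mod_cast this)
  obtain ⟨j, hj⟩ : Odd p := (Fact.out : p.Prime).odd_of_ne_two hp2
  refine hG.mem_nr_of_fuse hy hc0 hc hz hzz ?_
  set u := y * hF.rt hc hz * y⁻¹ with hud
  have h1 : u ^ p = 1 := by rw [hud, conj_pow, hF.rt_pow_char hc hz, mul_one, mul_inv_cancel]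
  have h2 : u = (u * u) ^ (j + 1) := by
    rw [← pow_two, ← pow_mul, show 2 * (j + 1) = p + 1 by omega, pow_succ, h1, one_mul]
  rw [h2]
  exact pow_mem (hF.sq_mem_kr hu) _

theorem mem_nr_of_comm_pl (h6 : 6 ≤ k) {y : Isom Q} (hy : y ∈ M) {T : isoG B₂} (hT : hF.Pl T)
    (h : Commute y (hF.kL T)) : y ∈ hF.Nr := hG.mem_nr_of_comm_kL_invol h6 hy hT.sq hT.fixv hT.negv h

theorem kL_mem_M {T : isoG B₂} (hT : hF.Pl T) : hF.kL T ∈ M := hG.mem_kr hT.omega (hF.kL_mem T)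

/-- An element conjugating a one-sided involution into the stabiliser. -/
theorem mem_nr_of_conj (h6 : 6 ≤ k) {m : Isom Q} (hm : m ∈ M) {T : isoG B₂} (hT : hF.Pl T)
    (h : m * hF.kL T * m⁻¹ ∈ hF.Nr) : m ∈ hF.Nr := by
  set u := m * hF.kL T * m⁻¹ with hu
  have hsq : hF.kL T * hF.kL T = 1 := by rw [← map_mul, hT.sq, map_one]
  have huu : u * u = 1 := by
    rw [hu, show m * hF.kL T * m⁻¹ * (m * hF.kL T * m⁻¹) = m * (hF.kL T * hF.kL T) * m⁻¹ by group, hsq,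
      mul_one, mul_inv_cancel]
  obtain ⟨c, z, hc, hz, hc0, hzz, hcomm⟩ := hF.exists_root_of_rank h6 h huu
    ((Fl.rank_conj m _).trans (hF.pl_rank hT))
  refine hF.Nr.inv_mem_iff.1 (hG.mem_nr_of_fuse' (M.inv_mem hm) hc0 hc hz hzz ?_)
  refine hG.mem_nr_of_comm_pl h6 (M.mul_mem (M.mul_mem (M.inv_mem hm) (hG.rt_mem hc hz)) (by rwa [inv_inv])) hT ?_
  rw [inv_inv]
  show m⁻¹ * hF.rt hc hz * m * hF.kL T = hF.kL T * (m⁻¹ * hF.rt hc hz * m)
  have e : hF.kL T = m⁻¹ * u * m := by rw [hu]; group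
  rw [e, show m⁻¹ * hF.rt hc hz * m * (m⁻¹ * u * m) = m⁻¹ * (hF.rt hc hz * u) * m by group,
    show m⁻¹ * u * m * (m⁻¹ * hF.rt hc hz * m) = m⁻¹ * (u * hF.rt hc hz) * m by group, hcomm.eq]

/-- An involution meeting both one-sided involutions is two-sided. -/
theorem side (h6 : 6 ≤ k) {y c : Isom Q} (hy : y ∈ M) (hyN : y ∉ hF.Nr) {T P : isoG B₂} (hT : hF.Pl T)
    (hP : hF.Pl P) (hcM : c ∈ M) (hcc : c * c = 1) (hc1 : c ≠ 1) (hcT : Commute c (hF.kL T))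
    (hcP : Commute c (y * hF.kL P * y⁻¹))
    (hcj : ∃ (R : isoG B₂) (d : Isom Q), hF.Pl R ∧ d ∈ M ∧ c * hF.kL T = d * hF.kL R * d⁻¹) :
    ∃ S : isoG B₂, S * S = 1 ∧ c = hF.kL T * hF.aset.kR S := by
  obtain ⟨R, d, hR, hd, hcd⟩ := hcj
  have hcN := hG.mem_nr_of_comm_pl h6 hcM hT hcT
  have hdN : d ∈ hF.Nr := hG.mem_nr_of_conj h6 hd hR (by
    rw [← hcd]; exact hF.Nr.mul_mem hcN (hF.kr_le_nr (hF.kL_mem T)))
  have hTT : hF.kL T * hF.kL T = 1 := by rw [← map_mul, hT.sq, map_one]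
  have hce : c = c * hF.kL T * hF.kL T := by rw [mul_assoc, hTT, mul_one]
  rcases hdN with hdK | hdK
  · -- the same side
    exfalso
    obtain ⟨A, T', -, -, hconj, hA, -⟩ := hF.conj_kL hdK R
    set U := T' * T with hU
    have hcU : c = hF.kL U := by rw [hU, map_mul, ← hconj, ← hcd, ← hce]
    have hUU : U * U = 1 := hF.kL_inj (by rw [map_mul, ← hcU, hcc, map_one])
    have hp : ∃ v, v ≠ 0 ∧ (U.1 : Matrix (Fin k) (Fin k) F) *ᵥ v = v := by
      by_contra! hall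
      have hneg : ∀ x, (U.1 : Matrix (Fin k) (Fin k) F) *ᵥ x = -x := fun x => by
        have h1 : x + (U.1 : Matrix (Fin k) (Fin k) F) *ᵥ x = 0 := by
          by_contra h0
          refine hall _ h0 ?_
          have h2 : (U.1 : Matrix (Fin k) (Fin k) F) *ᵥ ((U.1 : Matrix (Fin k) (Fin k) F) *ᵥ x) = x := by
            rw [mulVec_mulVec, ← Units.val_mul, ← Subgroup.coe_mul, hUU]; simp
          rw [mulVec_add, h2, add_comm]
        exact eq_neg_of_add_eq_zero_right h1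
      refine hF.neg_ne_conj h6 hT hR hA fun x => ?_
      have hT'U : T' = U * T := by rw [hU, mul_assoc, hT.sq, mul_one]
      rw [hT'U, Subgroup.coe_mul, Units.val_mul, ← mulVec_mulVec, hneg]
    have hn : ∃ v, v ≠ 0 ∧ (U.1 : Matrix (Fin k) (Fin k) F) *ᵥ v = -v := by
      by_contra! hall
      refine hc1 ?_
      rw [hcU, show U = 1 from hF.aset.isoG_ext fun x => ?_, map_one]
      show _ = ((1 : GL (Fin k) F) : Matrix (Fin k) (Fin k) F) *ᵥ x
      rw [Units.val_one, one_mulVec]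
      by_contra h0
      refine hall _ (sub_ne_zero.2 h0) ?_
      have h2 : (U.1 : Matrix (Fin k) (Fin k) F) *ᵥ ((U.1 : Matrix (Fin k) (Fin k) F) *ᵥ x) = x := by
        rw [mulVec_mulVec, ← Units.val_mul, ← Subgroup.coe_mul, hUU]; simp
      rw [mulVec_sub, h2, neg_sub]
    refine hyN (hG.mem_nr_of_conj h6 hy hP (hG.mem_nr_of_comm_kL_invol h6 (T := U)
      (M.mul_mem (M.mul_mem hy (hG.kL_mem_M hP)) (M.inv_mem hy)) hUU hp hn ?_))
    rw [← hcU]; exact hcP.symm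
  · -- opposite sides
    obtain ⟨A, T', -, -, hconj, -, -⟩ := hF.conj_kL hdK R
    have hr : c * hF.kL T = hF.aset.kR T' := by
      rw [hcd, ← hF.conj_conj (hF.aset.kR T'), ← hF.kL_eq, ← hconj, _root_.mul_inv_rev, hF.J_inv,
        show J * (J * d * hF.kL R * (d⁻¹ * J)) * J = (J * J) * d * hF.kL R * d⁻¹ * (J * J) by group, hF.J_sq,
        one_mul, mul_one]
    refine ⟨T', hF.kR_inj ?_, by rw [hF.LR_comm, ← hr, ← hce]⟩
    rw [map_mul, ← hr, show c * hF.kL T * (c * hF.kL T) = c * (hF.kL T * c) * hF.kL T by group, ← hcT.eq,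
      show c * (c * hF.kL T) * hF.kL T = (c * c) * (hF.kL T * hF.kL T) by group, hcc, hTT, one_mul, map_one]

/-- The two-sided involution of an element outside the stabiliser. -/
theorem two_sided (h6 : 6 ≤ k) {T₁ T₂ : isoG B₂} (h₁ : hF.Pl T₁) (h₂ : hF.Pl T₂)
    (hne : ∀ d ∈ M, hF.kL T₂ ≠ d * hF.kL T₁ * d⁻¹) {y : Isom Q} (hy : y ∈ M) (hyN : y ∉ hF.Nr) :
    ∃ (c : Isom Q) (S S' : isoG B₂), c ∈ Subgroup.closure {hF.kL T₁, y * hF.kL T₂ * y⁻¹} ∧ c ∈ M ∧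
      Commute c (y * hF.kL T₂ * y⁻¹) ∧ S * S = 1 ∧ c = hF.kL T₁ * hF.aset.kR S ∧
      y⁻¹ * c * y = hF.kL T₂ * hF.aset.kR S' := by
  set a := hF.kL T₁
  set b := y * hF.kL T₂ * y⁻¹ with hb
  have ha : a * a = 1 := by rw [← map_mul, h₁.sq, map_one]
  have haP : hF.kL T₂ * hF.kL T₂ = 1 := by rw [← map_mul, h₂.sq, map_one]
  have hbb : b * b = 1 := by
    rw [hb, show y * hF.kL T₂ * y⁻¹ * (y * hF.kL T₂ * y⁻¹) = y * (hF.kL T₂ * hF.kL T₂) * y⁻¹ by group, haP,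
      mul_one, mul_inv_cancel]
  have hcl : Subgroup.closure {a, b} ≤ M := by
    rw [Subgroup.closure_le]
    rintro x (rfl | rfl)
    · exact hG.kL_mem_M h₁
    · exact M.mul_mem (M.mul_mem hy (hG.kL_mem_M h₂)) (M.inv_mem hy)
  rcases CfsgLib.TensorSquareThree.dihedral ha hbb with ⟨d, hd, hbd⟩ | ⟨c, hc, hc1, hcc, hca, hcb, hA, hB⟩
  · refine absurd ?_ (hne (y⁻¹ * d) (M.mul_mem (M.inv_mem hy) (hcl hd)))
    rw [show y⁻¹ * d * a * (y⁻¹ * d)⁻¹ = y⁻¹ * (d * a * d⁻¹) * y by group, ← hbd, hb]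
    group
  have hcj : ∀ x, ((∃ d ∈ Subgroup.closure {a, b}, x = d * a * d⁻¹) ∨
      ∃ d ∈ Subgroup.closure {a, b}, x = d * b * d⁻¹) →
      ∃ (R : isoG B₂) (d : Isom Q), hF.Pl R ∧ d ∈ M ∧ x = d * hF.kL R * d⁻¹ := by
    rintro x (⟨d, hd, rfl⟩ | ⟨d, hd, rfl⟩)
    · exact ⟨T₁, d, h₁, hcl hd, rfl⟩
    · exact ⟨T₂, d * y, h₂, M.mul_mem (hcl hd) hy, by rw [hb]; group⟩
  obtain ⟨S, hS, hcS⟩ := hG.side h6 hy hyN h₁ h₂ (hcl hc) hcc hc1 hca hcb (hcj _ hA)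
  set c' := y⁻¹ * c * y with hc'
  obtain ⟨R, d, hR, hd, hcd⟩ := hcj _ hB
  obtain ⟨S', -, hcS'⟩ := hG.side h6 (M.inv_mem hy) (fun h => hyN (hF.Nr.inv_mem_iff.1 h)) h₂ h₁
    (c := c') (M.mul_mem (M.mul_mem (M.inv_mem hy) (hcl hc)) hy)
    (by rw [hc', show y⁻¹ * c * y * (y⁻¹ * c * y) = y⁻¹ * (c * c) * y by group, hcc, mul_one, inv_mul_cancel])
    (fun h => hc1 (by
      rw [hc'] at h
      rw [show c = y * (y⁻¹ * c * y) * y⁻¹ by group, h, mul_one, mul_inv_cancel]))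
    (by
      show c' * hF.kL T₂ = hF.kL T₂ * c'
      rw [hc', show y⁻¹ * c * y * hF.kL T₂ = y⁻¹ * (c * b) * y by rw [hb]; group,
        show hF.kL T₂ * (y⁻¹ * c * y) = y⁻¹ * (b * c) * y by rw [hb]; group, hcb])
    (by
      rw [inv_inv]
      show c' * (y⁻¹ * a * y) = y⁻¹ * a * y * c'
      rw [hc', show y⁻¹ * c * y * (y⁻¹ * a * y) = y⁻¹ * (c * a) * y by group, hca]
      group)
    ⟨R, y⁻¹ * d, hR, M.mul_mem (M.inv_mem hy) hd, by
      rw [hc', show y⁻¹ * c * y * hF.kL T₂ = y⁻¹ * (c * b) * y by rw [hb]; group, hcd]; group⟩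
  exact ⟨c, S, S', hc, hcl hc, hcb, hS, hcS, hcS'⟩

/-- **Everything is in the stabiliser.** -/
theorem le_nr_of_six (h6 : 6 ≤ k) : M ≤ hF.Nr := by
  intro g hg
  by_contra hgN
  have h2 := hF.aset.two
  obtain ⟨T₁, T₂, e, w, h₁, h₂, h12, han, ⟨γ, hγ0, hγ, hγT⟩, he0, he₁, he₂, hw0, hw₁, hw₂⟩ := hF.exists_planes h6
  set a := hF.kL T₁ with hadef
  have hne : ∀ d ∈ M, hF.kL T₂ ≠ d * a * d⁻¹ := by
    intro d hd h
    have hdN := hG.mem_nr_of_conj h6 hd h₁ (by rw [← hadef, ← h]; exact hF.kr_le_nr (hF.kL_mem T₂))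
    rcases hdN with hdK | hdK
    · obtain ⟨A, T', μ, hμ, hconj, hA, hAs⟩ := hF.conj_kL hdK T₁
      have hT : T₂ = T' := hF.kL_inj (by rw [h, ← hconj])
      set x := ((A⁻¹ : GL (Fin k) F) : Matrix (Fin k) (Fin k) F) *ᵥ γ with hx
      have hAx : (A : Matrix (Fin k) (Fin k) F) *ᵥ x = γ := by
        rw [hx, mulVec_mulVec, ← Units.val_mul, mul_inv_cancel, Units.val_one, one_mulVec]
      have hxx : B₂ x x = 0 := by
        have h3 := hAs x x
        rw [hAx, hγ] at h3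
        exact (mul_eq_zero.1 h3.symm).resolve_left hμ
      have hTx : (T₁.1 : Matrix (Fin k) (Fin k) F) *ᵥ x = -x := by
        rw [hT, hA, Units.val_mul, Units.val_mul, ← mulVec_mulVec, ← mulVec_mulVec, ← hx] at hγT
        refine mulVec_injective_iff_isUnit.mpr A.isUnit ?_
        show (A : Matrix (Fin k) (Fin k) F) *ᵥ _ = (A : Matrix (Fin k) (Fin k) F) *ᵥ _
        rw [hγT, mulVec_neg, hAx]
      exact hγ0 (by rw [← hAx, han x hxx hTx, mulVec_zero])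
    · obtain ⟨A, T', -, -, hconj, -, -⟩ := hF.conj_kL hdK T₁
      obtain ⟨r, hr⟩ := hF.scalar_of_kL_eq (S := T₂) (S' := T') (by
        rw [h, ← hF.conj_conj (hF.aset.kR T'), ← hF.kL_eq, ← hconj, _root_.mul_inv_rev, hF.J_inv, ← hadef,
          show J * (J * d * a * (d⁻¹ * J)) * J = (J * J) * d * a * d⁻¹ * (J * J) by group, hF.J_sq,
          one_mul, mul_one])
      have h3 := hr e
      rw [he₂] at h3
      have h4 := hr γ
      rw [hγT] at h4
      have r1 : r = 1 := smul_left_injective F he0 (h3.symm.trans (one_smul F e).symm)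
      rw [r1, one_smul, neg_eq_iff_add_eq_zero, ← two_smul F γ] at h4
      exact hγ0 ((smul_eq_zero.1 h4).resolve_left h2)
  obtain ⟨c, S, -, -, hcM, hcb, hS, hcS, -⟩ := hG.two_sided h6 h₁ h₂ hne hg hgN
  set b := g * hF.kL T₂ * g⁻¹ with hb
  have hbM : b ∈ M := M.mul_mem (M.mul_mem hg (hG.kL_mem_M h₂)) (M.inv_mem hg)
  have hbN : b ∉ hF.Nr := fun h => hgN (hG.mem_nr_of_conj h6 hg h₂ h)
  obtain ⟨c₁, S₁, S₁', hc₁, -, hc₁b, hS₁, hc₁S, hc₁S'⟩ := hG.two_sided h6 h₁ h₂ hne hbM hbN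
  -- the second involution commutes with the first
  have hcomm : Commute c₁ c := by
    have hle : Subgroup.closure {a, b * hF.kL T₂ * b⁻¹} ≤ Subgroup.centralizer {c} := by
      rw [Subgroup.closure_le]
      have hcT₂ : Commute c (hF.kL T₂) := by
        rw [hcS]
        refine Commute.mul_left ?_ (hF.LR_comm T₂ S).symm
        show hF.kL T₁ * hF.kL T₂ = hF.kL T₂ * hF.kL T₁
        rw [← map_mul, ← map_mul, h12]
      have hca : Commute c a := by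
        rw [hcS]
        exact Commute.mul_left (Commute.refl a) (hF.LR_comm T₁ S).symm
      rintro x (rfl | rfl)
      · exact Subgroup.mem_centralizer_singleton_iff.2 hca.eq.symm
      · exact Subgroup.mem_centralizer_singleton_iff.2 ((hcb.mul_right hcT₂).mul_right hcb.inv_right).eq.symm
    exact Subgroup.mem_centralizer_singleton_iff.1 (hle hc₁)
  set U := S * S₁ with hUdef
  have haa : a * a = 1 := by rw [hadef, ← map_mul, h₁.sq, map_one]
  have hcU : c * c₁ = hF.aset.kR U := by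
    rw [hUdef, map_mul, hcS, hc₁S, ← hadef,
      show a * hF.aset.kR S * (a * hF.aset.kR S₁) = a * (hF.aset.kR S * a) * hF.aset.kR S₁ by group,
      ← hF.LR_comm T₁ S, ← hadef, ← mul_assoc, haa, one_mul]
  have hUU : U * U = 1 := hF.kR_inj (by
    have hcc : c * c = 1 := by
      rw [hcS, show hF.kL T₁ * hF.aset.kR S * (hF.kL T₁ * hF.aset.kR S) =
        hF.kL T₁ * (hF.aset.kR S * hF.kL T₁) * hF.aset.kR S by group, ← hF.LR_comm, ← mul_assoc, ← hadef, haa,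
        one_mul, ← map_mul, hS, map_one]
    have hcc₁ : c₁ * c₁ = 1 := by
      rw [hc₁S, show hF.kL T₁ * hF.aset.kR S₁ * (hF.kL T₁ * hF.aset.kR S₁) =
        hF.kL T₁ * (hF.aset.kR S₁ * hF.kL T₁) * hF.aset.kR S₁ by group, ← hF.LR_comm, ← mul_assoc, ← hadef, haa,
        one_mul, ← map_mul, hS₁, map_one]
    rw [map_mul, ← hcU, map_one, show c * c₁ * (c * c₁) = c * (c₁ * c) * c₁ by group, hcomm.eq,
      show c * (c * c₁) * c₁ = (c * c) * (c₁ * c₁) by group, hcc, hcc₁, one_mul])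
  -- a vector and its negative
  have hsign : ∀ σ : F, σ ≠ 0 → (∀ y, (S₁.1 : Matrix (Fin k) (Fin k) F) *ᵥ y =
      σ • ((S.1 : Matrix (Fin k) (Fin k) F) *ᵥ y)) → False := by
    intro σ hσ hS₁S
    have hc₁c : ∀ v, mat Q c₁ *ᵥ v = σ • (mat Q c *ᵥ v) := fun v => by
      induction v using ten_induction with
      | hadd v w hv hw => rw [mulVec_add, mulVec_add, hv, hw, smul_add]
      | h0 => simp
      | h x y => rw [hc₁S, hcS, Fl.mul_vec, Fl.mul_vec, hF.aset.kR_ten, hF.aset.kR_ten, hF.kL_ten, hF.kL_ten,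
          hS₁S, ten_smul_right]
    have hv : ∀ x y, ten ((T₂.1 : Matrix (Fin k) (Fin k) F) *ᵥ x) ((S₁'.1 : Matrix (Fin k) (Fin k) F) *ᵥ y) =
        σ • ten ((T₁.1 : Matrix (Fin k) (Fin k) F) *ᵥ x) ((S.1 : Matrix (Fin k) (Fin k) F) *ᵥ y) := fun x y => by
      have h3 := congrArg (fun q => mat Q q *ᵥ ten x y) hc₁S'
      rw [Fl.mul_vec, Fl.mul_vec, hc₁c, mulVec_smul, ← Fl.mul_vec, ← Fl.mul_vec,
        show b⁻¹ * c * b = c by rw [mul_assoc, hcb.eq, inv_mul_cancel_left], hcS] at h3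
      rw [Fl.mul_vec, Fl.mul_vec, hF.aset.kR_ten, hF.aset.kR_ten, hF.kL_ten, hF.kL_ten] at h3
      exact h3.symm
    obtain ⟨y, hy⟩ : ∃ y : Fin k → F, (S.1 : Matrix (Fin k) (Fin k) F) *ᵥ y ≠ 0 :=
      ⟨w, fun h => hw0 (mulVec_injective_iff_isUnit.mpr S.1.isUnit (h.trans (mulVec_zero _).symm))⟩
    have h3 := hv e y
    have h4 := hv w y
    rw [he₂, he₁, ← ten_smul_right] at h3
    rw [hw₂, hw₁, ← ten_smul_right] at h4
    have h5 := ten_inj_right hw0 h4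
    rw [h5, ← neg_one_smul F e, ten_smul_left, ← ten_smul_right] at h3
    have h6' := ten_inj_right he0 h3
    rw [neg_one_smul, eq_neg_iff_add_eq_zero, ← two_smul F, smul_smul] at h6'
    exact hy ((smul_eq_zero.1 h6').resolve_left (mul_ne_zero h2 hσ))
  have hU2 : ∀ x, (U.1 : Matrix (Fin k) (Fin k) F) *ᵥ ((U.1 : Matrix (Fin k) (Fin k) F) *ᵥ x) = x := fun x => by
    rw [mulVec_mulVec, ← Units.val_mul, ← Subgroup.coe_mul, hUU]; simp
  have hSS : ∀ x, (S.1 : Matrix (Fin k) (Fin k) F) *ᵥ ((U.1 : Matrix (Fin k) (Fin k) F) *ᵥ x) =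
      (S₁.1 : Matrix (Fin k) (Fin k) F) *ᵥ x := fun x => by
    rw [mulVec_mulVec, ← Units.val_mul, ← Subgroup.coe_mul, hUdef, ← mul_assoc, hS, one_mul]
  have hp : ∃ v, v ≠ 0 ∧ (U.1 : Matrix (Fin k) (Fin k) F) *ᵥ v = v := by
    by_contra! hall
    refine hsign (-1) (neg_ne_zero.2 one_ne_zero) fun x => ?_
    rw [← hSS x, eq_neg_of_add_eq_zero_right (show x + (U.1 : Matrix (Fin k) (Fin k) F) *ᵥ x = 0 by
      by_contra h0
      exact hall _ h0 (by rw [mulVec_add, hU2, add_comm])), mulVec_neg, neg_one_smul]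
  have hn : ∃ v, v ≠ 0 ∧ (U.1 : Matrix (Fin k) (Fin k) F) *ᵥ v = -v := by
    by_contra! hall
    refine hsign 1 one_ne_zero fun x => ?_
    rw [← hSS x, one_smul, show (U.1 : Matrix (Fin k) (Fin k) F) *ᵥ x = x by
      by_contra h0
      exact hall _ (sub_ne_zero.2 h0) (by rw [mulVec_sub, hU2, neg_sub])]
  refine hbN (hG.mem_nr_of_conj h6 hbM h₂ (hG.mem_nr_of_comm_kR_invol h6 (T := U)
    (M.mul_mem (M.mul_mem hbM (hG.kL_mem_M h₂)) (M.inv_mem hbM)) hUU hp hn ?_))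
  rw [← hcU]
  refine (Commute.mul_left ?_ hc₁b).symm
  have hcT₂ : Commute c (hF.kL T₂) := by
    rw [hcS]
    refine Commute.mul_left ?_ (hF.LR_comm T₂ S).symm
    show hF.kL T₁ * hF.kL T₂ = hF.kL T₂ * hF.kL T₁
    rw [← map_mul, ← map_mul, h12]
  exact (hcb.mul_right hcT₂).mul_right hcb.inv_right

end GCtx

end CfsgLib.TWGap
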