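import Cfsg.Agent.TensorWreathOrth.Gap.Classify

/-!
# Fusion of regular root elements is controlled by the stabiliser
-/

set_option autoImplicit false
set_option linter.unusedSectionVars false

namespace CfsgLib.TWGap

open Matrix Module CfsgLib.Spinor CfsgLib.OrthMax CfsgLib.TensorOrth
open CfsgLib.TensorMax (Idx ten ten_add_left ten_add_right ten_smul_left ten_smul_right ten_eq_zero
  ten_inj_left ten_inj_right)

variable {F : Type*} [Field F] [Fintype F] {k : ℕ} {Q : QuadraticForm F (Idx k k → F)}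
  {B₁ B₂ : LinearMap.BilinForm F (Fin k → F)} {J : Isom Q} {M : Subgroup (Isom Q)}

namespace Fl

variable (hF : Fl Q B₁ B₂ J)
include hF

/-- A vector separating a vector from the span of two others. -/
theorem exists_sep {a b e : Fin k → F} (h : ∀ r s : F, r • b + s • e ≠ a) :
    ∃ u, B₂ a u = 1 ∧ B₂ b u = 0 ∧ B₂ e u = 0 := by
  have hnot : a ∉ Submodule.span F {b, e} := fun hm => by
    obtain ⟨r, s, hrs⟩ := Submodule.mem_span_pair.1 hm
    exact h r s hrs
  obtain ⟨f, hfa, hf'⟩ := Submodule.exists_dual_map_eq_bot_of_notMem hnot inferInstance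
  have hf : ∀ x ∈ Submodule.span F {b, e}, f x = 0 := fun x hx => by
    have := Submodule.mem_map_of_mem (f := f) hx
    rwa [hf', Submodule.mem_bot] at this
  set u := (B₂.toDual hF.aset.tset.f₂.nondeg).symm ((f a)⁻¹ • f) with hu
  have hu' : ∀ x, B₂ x u = (f a)⁻¹ * f x := fun x => by
    rw [hF.aset.symm₂, hu, LinearMap.BilinForm.apply_toDual_symm_apply, LinearMap.smul_apply, smul_eq_mul]
  exact ⟨u, by rw [hu', inv_mul_cancel₀ hfa],
    by rw [hu', hf b (Submodule.subset_span (by simp)), mul_zero],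
    by rw [hu', hf e (Submodule.subset_span (by simp)), mul_zero]⟩

end Fl

namespace GCtx

variable {hF : Fl Q B₁ B₂ J} (hG : GCtx hF M)
include hG

/-- An element conjugating a regular root element into the stabiliser is in it. -/
theorem mem_nr_of_fuse {y : Isom Q} (hy : y ∈ M) {c z : Fin k → F} (hc0 : c ≠ 0) (hc : B₂ c c = 0)
    (hz : B₂ z c = 0) (hzz : B₂ z z ≠ 0) (hu : y * hF.rt hc hz * y⁻¹ ∈ Kr Q) : y ∈ hF.Nr := by
  classical
  have hs := hF.aset
  have h₂ := hs.tset.f₂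
  have h2 := hs.two
  have h4 := hF.four
  rcases hF.slice_of_conj hG.plane hc0 hc hz hzz hu with ⟨w, hw0, hw, hmap⟩ | ⟨γ, hγ0, hγ, hmap⟩
  · exact Or.inl (hG.sliceR y hy c w hc0 hc hw0 hw hmap)
  by_cases hyK : y ∈ Kr Q
  · exact Or.inl hyK
  choose f hf using hmap
  let fL : (Fin k → F) →ₗ[F] (Fin k → F) :=
    { toFun := f
      map_add' := fun a b => ten_inj_right hγ0 (by rw [← hf, ten_add_left, mulVec_add, hf, hf, ← ten_add_right])
      map_smul' := fun r a => ten_inj_right hγ0 (by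
        rw [← hf, ten_smul_left, mulVec_smul, hf, RingHom.id_apply, ← ten_smul_right]) }
  have hfs : Function.Surjective fL := LinearMap.surjective_of_injective fun a b h =>
    ten_inj_left hc0 (CfsgLib.TensorOrth.mulVec_injective y (by
      show mat Q y *ᵥ _ = mat Q y *ᵥ _
      rw [hf, hf, show f a = f b from h]))
  -- every singular slice goes to a left slice
  have hall : ∀ d : Fin k → F, d ≠ 0 → B₂ d d = 0 → ∃ (γ' : Fin k → F) (T : (Fin k → F) → Fin k → F), γ' ≠ 0 ∧
      ∀ x, mat Q y⁻¹ *ᵥ ten x d = ten γ' (T x) := by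
    intro d hd0 hd
    obtain ⟨d', hd', hdd'⟩ := h₂.exists_partner hd0 hd
    obtain ⟨z', hz', -, hzz'⟩ := h₂.exists_nonsingular_pair h2 rfl hd hd' hdd' (by omega)
    set g := y⁻¹ * hF.rt hd hz' * y with hg
    have hgM : g ∈ M := M.mul_mem (M.mul_mem (M.inv_mem hy) (hG.rt_mem hd hz')) hy
    have hgK : g ∈ Kr Q := hG.sliceR g hgM c c hc0 hc hc0 hc fun x => by
      obtain ⟨x', hx'⟩ := hfs (esie B₂ 1 d z' (-B₂ z' z' / 2) (f x))
      refine ⟨x', CfsgLib.TensorOrth.mulVec_injective y ?_⟩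
      show mat Q y *ᵥ _ = mat Q y *ᵥ _
      rw [← Fl.mul_vec, hg, show y * (y⁻¹ * hF.rt hd hz' * y) = hF.rt hd hz' * y by group, Fl.mul_vec, hf, hF.rt_ten,
        hf, show f x' = _ from hx']
    rcases hF.slice_of_conj hG.plane hd0 hd hz' hzz' (y := y⁻¹) (by rwa [inv_inv, ← hg]) with
      ⟨w, hw0, hw, hmap'⟩ | ⟨γ', hγ'0, -, hmap'⟩
    · exact absurd ((Kr Q).inv_mem_iff.1 (hG.sliceR _ (M.inv_mem hy) d w hd0 hd hw0 hw hmap')) hyK
    · choose T hT using hmap'
      exact ⟨γ', T, hγ'0, hT⟩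
  obtain ⟨δ, hδ, hδc⟩ := h₂.exists_partner hc0 hc
  have hcδ : B₂ c δ = 1 := by rw [hs.symm₂, hδc]
  have hδ0 : δ ≠ 0 := fun h => by simp [h] at hδc
  obtain ⟨γc, Tc, hγc, hTc⟩ := hall c hc0 hc
  obtain ⟨γδ, Tδ, hγδ, hTδ⟩ := hall δ hδ0 hδ
  let TL : (Fin k → F) →ₗ[F] (Fin k → F) :=
    { toFun := Tc
      map_add' := fun a b => ten_inj_right hγc (by rw [← hTc, ten_add_left, mulVec_add, hTc, hTc, ← ten_add_right])
      map_smul' := fun r a => ten_inj_right hγc (by
        rw [← hTc, ten_smul_left, mulVec_smul, hTc, RingHom.id_apply, ← ten_smul_right]) }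
  have hsurj : ∀ {γ' : Fin k → F} {T : (Fin k → F) → Fin k → F} {d : Fin k → F}, γ' ≠ 0 → d ≠ 0 →
      (∀ x, mat Q y⁻¹ *ᵥ ten x d = ten γ' (T x)) → Function.Surjective T := by
    intro γ' T d hγ' hd0 hT
    let L : (Fin k → F) →ₗ[F] (Fin k → F) :=
      { toFun := T
        map_add' := fun a b => ten_inj_right hγ' (by rw [← hT, ten_add_left, mulVec_add, hT, hT, ← ten_add_right])
        map_smul' := fun r a => ten_inj_right hγ' (by
          rw [← hT, ten_smul_left, mulVec_smul, hT, RingHom.id_apply, ← ten_smul_right]) }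
    exact LinearMap.surjective_of_injective (f := L) fun a b h =>
      ten_inj_left hd0 (CfsgLib.TensorOrth.mulVec_injective y⁻¹ (by
        show mat Q y⁻¹ *ᵥ _ = mat Q y⁻¹ *ᵥ _
        rw [hT, hT, show T a = T b from h]))
  let P : Submodule F (Fin k → F) :=
    { carrier := {d | ∃ γ', ∀ x, mat Q y⁻¹ *ᵥ ten x d = ten γ' (Tc x)}
      zero_mem' := ⟨0, fun x => by
        rw [ten_eq_zero.2 (Or.inr rfl), mulVec_zero, ten_eq_zero.2 (Or.inl rfl)]⟩
      add_mem' := by
        rintro a b ⟨g, hg⟩ ⟨g', hg'⟩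
        exact ⟨g + g', fun x => by rw [ten_add_right, mulVec_add, hg, hg', ten_add_left]⟩
      smul_mem' := by
        rintro r a ⟨g, hg⟩
        exact ⟨r • g, fun x => by rw [ten_smul_right, mulVec_smul, hg, ten_smul_left]⟩ }
  -- the four points of a conic
  have key : ∀ z, B₂ z c = 0 → B₂ z δ = 0 → B₂ z z ≠ 0 → δ ∈ P ∧ z ∈ P := by
    intro z hzc hzδ hzz
    have hcz : B₂ c z = 0 := by rw [hs.symm₂, hzc]
    have hδz : B₂ δ z = 0 := by rw [hs.symm₂, hzδ]
    set q := B₂ z z / 2 with hq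
    have hq2 : 2 * q = B₂ z z := by rw [hq]; field_simp
    set pp := c + z - q • δ with hpp
    set pm := c - z - q • δ with hpm
    have hpps : B₂ pp pp = 0 := by
      simp only [hpp, map_add, map_sub, map_smul, LinearMap.add_apply, LinearMap.sub_apply, LinearMap.smul_apply,
        smul_eq_mul, hc, hzc, hzδ, hcz, hδz, hδ, hcδ, hδc]
      linear_combination -hq2
    have hpms : B₂ pm pm = 0 := by
      simp only [hpm, map_add, map_sub, map_smul, LinearMap.add_apply, LinearMap.sub_apply, LinearMap.smul_apply,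
        smul_eq_mul, hc, hzc, hzδ, hcz, hδz, hδ, hcδ, hδc]
      linear_combination -hq2
    have hpp0 : pp ≠ 0 := fun h => hzz (by
      have := congrArg (fun v => B₂ v z) h
      simpa [hpp, hcz, hδz] using this)
    have hpm0 : pm ≠ 0 := fun h => hzz (by
      have := congrArg (fun v => B₂ v z) h
      simpa [hpm, hcz, hδz] using this)
    obtain ⟨γp, Tp, hγp, hTp⟩ := hall pp hpp0 hpps
    obtain ⟨γm, Tm, hγm, hTm⟩ := hall pm hpm0 hpms
    obtain ⟨w₀, hw₀⟩ := hs.exists_ne₁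
    have hindep : ∀ a b e : F, a • γc + b • γδ + e • γp = 0 → a = 0 ∧ b = 0 ∧ e = 0 := by
      intro a b e hrel
      obtain ⟨x₁, hx₁⟩ := hsurj hγc hc0 hTc w₀
      obtain ⟨x₂, hx₂⟩ := hsurj hγδ hδ0 hTδ w₀
      obtain ⟨x₃, hx₃⟩ := hsurj hγp hpp0 hTp w₀
      have hne : ∀ {γ' : Fin k → F} {T : (Fin k → F) → Fin k → F} {d x : Fin k → F},
          (∀ x, mat Q y⁻¹ *ᵥ ten x d = ten γ' (T x)) → γ' ≠ 0 → T x = w₀ → x ≠ 0 := by
        intro γ' T d x hT hγ' hx h0
        have h1 := hT x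
        rw [hx, h0, ten_eq_zero.2 (Or.inl rfl), mulVec_zero] at h1
        rcases ten_eq_zero.1 h1.symm with h | h
        · exact hγ' h
        · exact hw₀ h
      have h1 : mat Q y⁻¹ *ᵥ (ten x₁ (a • c) + ten x₂ (b • δ) + ten x₃ (e • pp)) = 0 := by
        rw [ten_smul_right, ten_smul_right, ten_smul_right, mulVec_add, mulVec_add, mulVec_smul, mulVec_smul,
          mulVec_smul, hTc, hTδ, hTp, hx₁, hx₂, hx₃, ← ten_smul_left, ← ten_smul_left, ← ten_smul_left, ← ten_add_left,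
          ← ten_add_left, hrel, ten_eq_zero.2 (Or.inl rfl)]
      have h2' : ten x₁ (a • c) + ten x₂ (b • δ) + ten x₃ (e • pp) = 0 :=
        CfsgLib.TensorOrth.mulVec_injective y⁻¹ (h1.trans (mulVec_zero _).symm)
      have e3 := congrArg (evB B₂ z) h2'
      simp only [hpp, map_add, map_zero, evB_ten, map_sub, map_smul, LinearMap.add_apply, LinearMap.sub_apply,
        LinearMap.smul_apply, smul_eq_mul, hcz, hδz, mul_zero, zero_smul, zero_add, sub_zero] at e3
      have he : e = 0 := (mul_eq_zero.1 ((smul_eq_zero.1 e3).resolve_right (hne hTp hγp hx₃))).resolve_right hzz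
      subst he
      have e1 := congrArg (evB B₂ c) h2'
      simp only [map_add, map_zero, evB_ten, map_smul, LinearMap.smul_apply, smul_eq_mul, hc, hδc, mul_zero,
        mul_one, zero_mul, zero_smul, zero_add, add_zero, LinearMap.zero_apply] at e1
      have hb := (smul_eq_zero.1 e1).resolve_right (hne hTδ hγδ hx₂)
      subst hb
      have e2 := congrArg (evB B₂ δ) h2'
      simp only [map_add, map_zero, evB_ten, map_smul, LinearMap.smul_apply, smul_eq_mul, hcδ, mul_one, zero_mul,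
        zero_smul, add_zero, LinearMap.zero_apply] at e2
      exact ⟨(smul_eq_zero.1 e2).resolve_right (hne hTc hγc hx₁), rfl, rfl⟩
    obtain ⟨u₁, hc1, hd1, hp1⟩ := hF.exists_sep (a := γc) (b := γδ) (e := γp) fun r s h => by
      have := (hindep 1 (-r) (-s) (by rw [← h]; module)).1
      exact one_ne_zero this
    obtain ⟨u₂, hd2, hc2, hp2⟩ := hF.exists_sep (a := γδ) (b := γc) (e := γp) fun r s h => by
      have := (hindep (-r) 1 (-s) (by rw [← h]; module)).2.1
      exact one_ne_zero this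
    obtain ⟨u₃, hp3, hc3, hd3⟩ := hF.exists_sep (a := γp) (b := γc) (e := γδ) fun r s h => by
      have := (hindep (-r) (-s) 1 (by rw [← h]; module)).2.2
      exact one_ne_zero this
    have hcomb : ∀ x u, (B₂ γp u) • Tp x + (B₂ γm u) • Tm x =
        (2 * B₂ γc u) • Tc x - (B₂ z z * B₂ γδ u) • Tδ x := by
      intro x u
      have e : ten x pp + ten x pm = (2 : F) • ten x c - B₂ z z • ten x δ := by
        rw [← ten_add_right, ← ten_smul_right, ← ten_smul_right, ← CfsgLib.TensorSlice.ten_sub_right]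
        congr 1
        rw [hpp, hpm, ← hq2]
        module
      have h1 := congrArg (fun v => evB B₂ u (mat Q J *ᵥ (mat Q y⁻¹ *ᵥ v))) e
      simp only [mulVec_add, mulVec_sub, mulVec_smul, hTp, hTm, hTc, hTδ, hF.flip, map_add, map_sub, map_smul,
        evB_ten, smul_smul] at h1
      exact h1
    have k1 : ∀ x, (B₂ γm u₁) • Tm x = (2 : F) • Tc x := fun x => by
      have h := hcomb x u₁
      rwa [hp1, hd1, hc1, zero_smul, zero_add, mul_zero, zero_smul, sub_zero, mul_one] at h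
    have k2 : ∀ x, (B₂ γm u₂) • Tm x = -(B₂ z z • Tδ x) := fun x => by
      have h := hcomb x u₂
      rwa [hp2, hd2, hc2, zero_smul, zero_add, mul_zero, zero_smul, zero_sub, mul_one] at h
    have k3 : ∀ x, Tp x + (B₂ γm u₃) • Tm x = 0 := fun x => by
      have h := hcomb x u₃
      rwa [hp3, hd3, hc3, one_smul, mul_zero, mul_zero, zero_smul, zero_smul, sub_zero] at h
    set α := B₂ γm u₁
    have hα : α ≠ 0 := fun h0 => by
      obtain ⟨x, hx⟩ := hsurj hγc hc0 hTc w₀
      have := k1 x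
      rw [h0, zero_smul, hx, eq_comm, smul_eq_zero] at this
      exact this.elim h2 hw₀
    have hTm' : ∀ x, Tm x = (2 / α) • Tc x := fun x => by
      rw [div_eq_inv_mul, ← smul_smul, ← k1, smul_smul, inv_mul_cancel₀ hα, one_smul]
    have hTδ' : ∀ x, Tδ x = (-(B₂ γm u₂ * (2 / α)) / B₂ z z) • Tc x := fun x => by
      have h := k2 x
      rw [hTm', smul_smul, eq_neg_iff_add_eq_zero] at h
      refine smul_right_injective _ hzz ?_
      show B₂ z z • _ = B₂ z z • _
      rw [smul_smul, mul_div_cancel₀ _ hzz]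
      linear_combination (norm := module) h
    have hTp' : ∀ x, Tp x = (-(B₂ γm u₃ * (2 / α))) • Tc x := fun x => by
      have h := k3 x
      rw [hTm', smul_smul] at h
      linear_combination (norm := module) h
    have mδ : δ ∈ P := ⟨(-(B₂ γm u₂ * (2 / α)) / B₂ z z) • γδ, fun x => by
      rw [hTδ, hTδ', ten_smul_right, ← ten_smul_left]⟩
    have mp : pp ∈ P := ⟨(-(B₂ γm u₃ * (2 / α))) • γp, fun x => by
      rw [hTp, hTp', ten_smul_right, ← ten_smul_left]⟩
    have mm : pm ∈ P := ⟨(2 / α) • γm, fun x => by rw [hTm, hTm', ten_smul_right, ← ten_smul_left]⟩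
    refine ⟨mδ, ?_⟩
    have e : z = (2 : F)⁻¹ • (pp - pm) := by
      rw [hpp, hpm]; match_scalars <;> field_simp <;> ring
    rw [e]
    exact P.smul_mem _ (P.sub_mem mp mm)
  obtain ⟨e₀, he₀c, he₀δ, he₀⟩ := h₂.exists_nonsingular_pair h2 rfl hc hδ hδc (by omega)
  have hP : ∀ d, d ∈ P := by
    intro d
    have hd := h₂.sub_mem_pair hc hδ hδc d
    have hdc : B₂ (d - B₂ d c • δ - (1 * B₂ d δ) • c) c = 0 := hd.1
    have hdδ : B₂ (d - B₂ d c • δ - (1 * B₂ d δ) • c) δ = 0 := hd.2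
    set d' := d - B₂ d c • δ - (1 * B₂ d δ) • c with hd'
    have hmem : d' ∈ P := by
      by_cases hdd : B₂ d' d' = 0
      · obtain ⟨r, hr⟩ : ∃ r : F, B₂ (d' + r • e₀) (d' + r • e₀) ≠ 0 := by
          by_contra! hcon
          have h1' := hcon 1
          have h2' := hcon (-1)
          simp only [map_add, map_smul, LinearMap.add_apply, LinearMap.smul_apply, smul_eq_mul, hdd,
            hs.symm₂ e₀ d'] at h1' h2'
          exact he₀ ((mul_eq_zero.1 (show (2 : F) * B₂ e₀ e₀ = 0 by linear_combination h1' + h2')).resolve_left h2)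
        have h1 := (key (d' + r • e₀) (by simp [hdc, he₀c]) (by simp [hdδ, he₀δ]) hr).2
        have h3 := P.sub_mem h1 (P.smul_mem r (key e₀ he₀c he₀δ he₀).2)
        rwa [add_sub_cancel_right] at h3
      · exact (key d' hdc hdδ hdd).2
    have hcP : c ∈ P := ⟨γc, hTc⟩
    have e : d = d' + B₂ d c • δ + (1 * B₂ d δ) • c := by rw [hd']; abel
    rw [e]
    exact P.add_mem (P.add_mem hmem (P.smul_mem _ (key e₀ he₀c he₀δ he₀).1)) (P.smul_mem _ hcP)
  choose G hGv using hP
  obtain ⟨x₀, hx₀⟩ : ∃ x₀, Tc x₀ ≠ 0 := by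
    obtain ⟨w, hw⟩ := hs.exists_ne₁
    obtain ⟨x₀, hx₀⟩ := hsurj hγc hc0 hTc w
    exact ⟨x₀, by rwa [hx₀]⟩
  let GL' : (Fin k → F) →ₗ[F] (Fin k → F) :=
    { toFun := G
      map_add' := fun a b => ten_inj_left hx₀ (by rw [← hGv, ten_add_right, mulVec_add, hGv, hGv, ← ten_add_left])
      map_smul' := fun r a => ten_inj_left hx₀ (by
        rw [← hGv, ten_smul_right, mulVec_smul, hGv, RingHom.id_apply, ← ten_smul_left]) }
  exact hF.Nr.inv_mem_iff.1 (Or.inr (hs.tset.mem_Kr_of_ten hF.kpos hF.kpos TL GL' fun x d => by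
    rw [Fl.mul_vec, hGv, hF.flip]; rfl))

/-- A `p`-subgroup of `M` with a regular root element lies in `Kr`. -/
theorem pgroup_le_kr {p : ℕ} [Fact p.Prime] [CharP F p] {X : Subgroup (Isom Q)} (hXM : X ≤ M)
    (hX : IsPGroup p X) {c z : Fin k → F} (hc0 : c ≠ 0) (hc : B₂ c c = 0) (hz : B₂ z c = 0)
    (hzz : B₂ z z ≠ 0) (hs : hF.rt hc hz ∈ X) : X ≤ Kr Q := by
  have hp2 : p ≠ 2 := by
    rintro rfl
    exact hF.aset.two (by exact_mod_cast CharP.cast_eq_zero F 2)
  have : Finite X := Subtype.finite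
  have hnil := hX.isNilpotent
  by_contra hle
  set P := X ⊓ Kr Q
  have hlt : P.subgroupOf X < Subgroup.normalizer ((P.subgroupOf X : Subgroup X) : Set X) := by
    refine Group.normalizerCondition_of_isNilpotent (P.subgroupOf X) (lt_top_iff_ne_top.mpr fun h => hle ?_)
    exact le_trans (Subgroup.subgroupOf_eq_top.mp h) inf_le_right
  obtain ⟨⟨y, hyX⟩, hyN, hyP⟩ := SetLike.exists_of_lt hlt
  have hyK : y ∉ Kr Q := fun h => hyP ⟨hyX, h⟩
  have hconj : (⟨y, hyX⟩ : X) * ⟨hF.rt hc hz, hs⟩ * (⟨y, hyX⟩ : X)⁻¹ ∈ P.subgroupOf X :=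
    (Subgroup.mem_normalizer_iff.mp hyN _).mp ⟨hs, hF.rt_kr hc hz⟩
  have hyW := hG.mem_nr_of_fuse (hXM hyX) hc0 hc hz hzz hconj.2
  obtain ⟨n, hn⟩ := hX ⟨y, hyX⟩
  obtain ⟨j, hj⟩ : Odd (p ^ n) := ((Fact.out : p.Prime).odd_of_ne_two hp2).pow
  refine hyK ?_
  have h1 : y ^ (p ^ n) = 1 := congrArg Subtype.val hn
  have h2 : y = (y * y) ^ (j + 1) := by
    rw [← pow_two, ← pow_mul, show 2 * (j + 1) = p ^ n + 1 by omega, pow_succ, h1, one_mul]
  rw [h2]
  exact pow_mem (hF.sq_mem_kr hyW) _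

end GCtx

end CfsgLib.TWGap
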