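import Cfsg.Agent.TensorWreathOrth.Gap.OneSided

/-!
# Involutions of the stabiliser moving little commute with a regular root element
-/

set_option autoImplicit false
set_option linter.unusedSectionVars false

namespace CfsgLib.TWGap

open Matrix Module CfsgLib.Spinor CfsgLib.OrthMax CfsgLib.TensorOrth
open CfsgLib.TensorMax (Idx ten ten_add_left ten_add_right ten_smul_left ten_smul_right ten_eq_zero
  ten_inj_left ten_inj_right)
open CfsgLib.TensorUnitary (ten_induction)
open scoped Kronecker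

variable {F : Type*} [Field F] [Fintype F] {k : ℕ} {Q : QuadraticForm F (Idx k k → F)}
  {B₁ B₂ : LinearMap.BilinForm F (Fin k → F)} {J : Isom Q}

/-- Maps of both factors whose product is the identity are scalars. -/
theorem scalar_of_ten {A B : Matrix (Fin k) (Fin k) F}
    (h : ∀ x y, ten (A *ᵥ x) (B *ᵥ y) = ten x y) (hk : 0 < k) :
    ∃ r : F, r ≠ 0 ∧ (∀ y, B *ᵥ y = r • y) ∧ ∀ x, A *ᵥ x = r⁻¹ • x := by
  set i : Fin k := ⟨0, hk⟩
  set e : Fin k → F := Pi.single i 1
  have ha : (A *ᵥ e) i ≠ 0 := fun h0 => by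
    have := congrFun (h e e) (i, i)
    simp only [ten, h0, zero_mul] at this
    simp [e, i] at this
  set r := ((A *ᵥ e) i)⁻¹ with hr
  have hB : ∀ y, B *ᵥ y = r • y := fun y => funext fun j => by
    have := congrFun (h e y) (i, j)
    simp only [ten, e, i, Pi.single_eq_same, one_mul] at this
    rw [Pi.smul_apply, smul_eq_mul, hr, eq_inv_mul_iff_mul_eq₀ ha]
    exact this
  have hr0 : r ≠ 0 := inv_ne_zero ha
  refine ⟨r, hr0, hB, fun x => funext fun j => ?_⟩
  have := congrFun (h x e) (j, i)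
  simp only [ten, hB, Pi.smul_apply, smul_eq_mul, e, i, Pi.single_eq_same, mul_one] at this
  rw [Pi.smul_apply, smul_eq_mul, eq_inv_mul_iff_mul_eq₀ hr0, mul_comm]
  exact this

/-- Three vectors independent together with their images. -/
def Triple (B : Matrix (Fin k) (Fin k) F) : Prop :=
  ∃ y : Fin 3 → Fin k → F, ∀ a b : Fin 3 → F, ∑ i, (a i • y i + b i • (B *ᵥ y i)) = 0 → a = 0 ∧ b = 0

theorem triple_of_nonsquare {B : Matrix (Fin k) (Fin k) F} {r : F} (hB : ∀ v, B *ᵥ (B *ᵥ v) = r • v)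
    (hr : ¬ IsSquare r) (h6 : 6 ≤ k) : Triple B := by
  have step : ∀ W : Submodule F (Fin k → F), (∀ w ∈ W, B *ᵥ w ∈ W) → finrank F W < k → ∃ y,
      ∀ a b : F, a • y + b • (B *ᵥ y) ∈ W → a = 0 ∧ b = 0 := by
    intro W hW hlt
    obtain ⟨y, -, hy⟩ := SetLike.exists_of_lt (lt_top_iff_ne_top.2 (fun h : W = ⊤ => by
      rw [h, finrank_top, Module.finrank_fin_fun] at hlt; omega))
    have hb : ∀ a b : F, a • y + b • (B *ᵥ y) ∈ W → b = 0 := fun a b hab => by
      by_contra hb
      set ρ := -(a / b) with hρ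
      have h1 : B *ᵥ y - ρ • y ∈ W := by
        have := W.smul_mem b⁻¹ hab
        rw [smul_add, smul_smul, smul_smul, inv_mul_cancel₀ hb, one_smul] at this
        rw [hρ, neg_smul, sub_neg_eq_add, div_eq_inv_mul, add_comm]
        exact this
      have h2 := hW _ h1
      rw [mulVec_sub, hB, mulVec_smul] at h2
      have h3 := W.add_mem h2 (W.smul_mem ρ h1)
      rw [smul_sub, smul_smul, sub_add_sub_cancel, ← sub_smul] at h3
      by_cases hz : r - ρ * ρ = 0
      · exact hr ⟨ρ, sub_eq_zero.1 hz⟩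
      · exact hy ((Submodule.smul_mem_iff W hz).1 h3)
    refine ⟨y, fun a b hab => ?_⟩
    have hb0 := hb a b hab
    subst hb0
    rw [zero_smul, add_zero] at hab
    by_contra hne
    exact hy ((Submodule.smul_mem_iff W fun h : a = 0 => hne ⟨h, rfl⟩).1 hab)
  have hinv : ∀ (W : Submodule F (Fin k → F)) (y : Fin k → F), (∀ w ∈ W, B *ᵥ w ∈ W) →
      ∀ w ∈ W ⊔ Submodule.span F {y, B *ᵥ y}, B *ᵥ w ∈ W ⊔ Submodule.span F {y, B *ᵥ y} := by
    intro W y hW w hw
    obtain ⟨p, hp, q, hq, rfl⟩ := Submodule.mem_sup.1 hw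
    obtain ⟨a, b, rfl⟩ := Submodule.mem_span_pair.1 hq
    rw [mulVec_add]
    refine Submodule.add_mem_sup (hW p hp) (Submodule.mem_span_pair.2 ⟨b * r, a, ?_⟩)
    rw [mulVec_add, mulVec_smul, mulVec_smul, hB, smul_smul]
    abel
  have hpair : ∀ y : Fin k → F, finrank F (Submodule.span F {y, B *ᵥ y}) ≤ 2 := fun y => by
    classical
    exact (finrank_span_le_card ({y, B *ᵥ y} : Set (Fin k → F))).trans (by
      rw [Set.toFinset_insert, Set.toFinset_singleton]; exact Finset.card_le_two)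
  have hbot : ∀ w ∈ (⊥ : Submodule F (Fin k → F)), B *ᵥ w ∈ (⊥ : Submodule F (Fin k → F)) := fun w hw => by
    rw [Submodule.mem_bot] at hw ⊢; rw [hw, mulVec_zero]
  obtain ⟨y₀, hy₀⟩ := step ⊥ hbot (by rw [finrank_bot]; omega)
  set W₁ := (⊥ : Submodule F (Fin k → F)) ⊔ Submodule.span F {y₀, B *ᵥ y₀}
  have hd₁ : finrank F W₁ ≤ 2 := by
    have : finrank F W₁ ≤ _ := Submodule.finrank_add_le_finrank_add_finrank (⊥ : Submodule F (Fin k → F))
      (Submodule.span F {y₀, B *ᵥ y₀})
    rw [finrank_bot] at this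
    have := hpair y₀
    omega
  obtain ⟨y₁, hy₁⟩ := step W₁ (hinv _ _ hbot) (by omega)
  set W₂ := W₁ ⊔ Submodule.span F {y₁, B *ᵥ y₁}
  have hd₂ : finrank F W₂ ≤ 4 := by
    have : finrank F W₂ ≤ _ := Submodule.finrank_add_le_finrank_add_finrank W₁ (Submodule.span F {y₁, B *ᵥ y₁})
    have := hpair y₁
    omega
  obtain ⟨y₂, hy₂⟩ := step W₂ (hinv _ _ (hinv _ _ hbot)) (by omega)
  refine ⟨![y₀, y₁, y₂], fun a b h => ?_⟩
  simp only [Fin.sum_univ_three, Matrix.cons_val] at h
  have m₀ : ∀ a b : F, a • y₀ + b • (B *ᵥ y₀) ∈ W₁ := fun a b =>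
    Submodule.mem_sup_right (Submodule.mem_span_pair.2 ⟨a, b, rfl⟩)
  have m₁ : ∀ a b : F, a • y₁ + b • (B *ᵥ y₁) ∈ W₂ := fun a b =>
    Submodule.mem_sup_right (Submodule.mem_span_pair.2 ⟨a, b, rfl⟩)
  obtain ⟨ha2, hb2⟩ := hy₂ (a 2) (b 2) (by
    rw [eq_neg_of_add_eq_zero_right h]
    exact W₂.neg_mem (W₂.add_mem (Submodule.mem_sup_left (m₀ _ _)) (m₁ _ _)))
  rw [ha2, hb2, zero_smul, zero_smul, add_zero, add_zero] at h
  obtain ⟨ha1, hb1⟩ := hy₁ (a 1) (b 1) (by rw [eq_neg_of_add_eq_zero_right h]; exact W₁.neg_mem (m₀ _ _))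
  rw [ha1, hb1, zero_smul, zero_smul, add_zero, add_zero] at h
  obtain ⟨ha0, hb0⟩ := hy₀ (a 0) (b 0) (by rw [h]; exact zero_mem _)
  exact ⟨funext fun i => by fin_cases i <;> assumption, funext fun i => by fin_cases i <;> assumption⟩

/-- Maps with three such vectors move a large space. -/
theorem Triple.rank_le {B A : Matrix (Fin k) (Fin k) F} (hB : Triple B) {X : Matrix (Idx k k) (Idx k k) F}
    (hX : ∀ x y, X *ᵥ ten x y = ten (A *ᵥ x) (B *ᵥ y)) :
    3 * k ≤ finrank F (LinearMap.range (X - 1).mulVecLin) := by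
  obtain ⟨y, hy⟩ := hB
  let Φ : (Fin 3 → Fin k → F) →ₗ[F] (Idx k k → F) :=
    { toFun := fun x => ∑ i, (ten (A *ᵥ x i) (B *ᵥ y i) - ten (x i) (y i))
      map_add' := fun x x' => by
        rw [← Finset.sum_add_distrib]
        exact Finset.sum_congr rfl fun i _ => by
          rw [Pi.add_apply, mulVec_add, ten_add_left, ten_add_left]; abel
      map_smul' := fun c x => by
        rw [RingHom.id_apply, Finset.smul_sum]
        exact Finset.sum_congr rfl fun i _ => by
          rw [Pi.smul_apply, mulVec_smul, ten_smul_left, ten_smul_left, smul_sub] }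
  have hmem : ∀ x, Φ x ∈ LinearMap.range (X - 1).mulVecLin := fun x => by
    show (∑ i, (ten (A *ᵥ x i) (B *ᵥ y i) - ten (x i) (y i))) ∈ LinearMap.range (X - 1).mulVecLin
    refine Submodule.sum_mem _ fun i _ => LinearMap.mem_range.2 ⟨ten (x i) (y i), ?_⟩
    rw [mulVecLin_apply, sub_mulVec, one_mulVec, hX]
  have hinj : Function.Injective (Φ.codRestrict _ hmem) := by
    rw [← LinearMap.ker_eq_bot, LinearMap.ker_eq_bot']
    intro x hx
    have h0 : ∀ l j, ∑ i, ((A *ᵥ x i) l * (B *ᵥ y i) j - x i l * y i j) = 0 := fun l j => by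
      have h := congrFun (congrArg Subtype.val hx) (l, j)
      simpa [Φ, LinearMap.codRestrict_apply, Finset.sum_apply, ten] using h
    have hl : ∀ l, (fun i => -(x i l)) = 0 := fun l => (hy (fun i => -(x i l)) (fun i => (A *ᵥ x i) l)
      (funext fun j => by
        rw [Finset.sum_apply, Pi.zero_apply, ← h0 l j]
        exact Finset.sum_congr rfl fun i _ => by
          simp only [Pi.add_apply, Pi.smul_apply, smul_eq_mul]; ring)).1
    funext i l
    simpa using congrFun (hl l) i
  have := LinearMap.finrank_le_finrank_of_injective hinj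
  simpa [Module.finrank_pi_fintype] using this

/-- An exchange involution moves more than twice a slice. -/
theorem swap_rank {X : Matrix (Idx k k) (Idx k k) F} {A B : Matrix (Fin k) (Fin k) F} (h6 : 6 ≤ k)
    (hX : ∀ x y, X *ᵥ ten x y = ten (B *ᵥ y) (A *ᵥ x)) {r : F} (hBA : ∀ x, B *ᵥ (A *ᵥ x) = r • x)
    (hA : Function.Injective (fun x => A *ᵥ x)) :
    k * 2 < finrank F (LinearMap.range (X - 1).mulVecLin) := by
  classical
  let P := {p : Fin k × Fin k // p.1 < p.2}
  have hcard : k * 2 < Fintype.card P := by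
    have hN : Fintype.card P = Fintype.card {p : Fin k × Fin k // p.2 < p.1} :=
      Fintype.card_congr ⟨fun p => ⟨(p.1.2, p.1.1), p.2⟩, fun p => ⟨(p.1.2, p.1.1), p.2⟩, fun _ => rfl, fun _ => rfl⟩
    have hD : Fintype.card {p : Fin k × Fin k // p.1 = p.2} = k := by
      rw [Fintype.card_congr (β := Fin k) ⟨fun p => p.1.1, fun i => ⟨(i, i), rfl⟩, fun ⟨⟨a, b⟩, (h : a = b)⟩ => by
        subst h; rfl, fun _ => rfl⟩, Fintype.card_fin]
    have hall : k * k ≤ Fintype.card P + Fintype.card {p : Fin k × Fin k // p.2 < p.1} +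
        Fintype.card {p : Fin k × Fin k // p.1 = p.2} := by
      rw [← Fintype.card_sum, ← Fintype.card_sum]
      refine le_of_eq_of_le (by rw [Fintype.card_prod, Fintype.card_fin] : k * k = Fintype.card (Fin k × Fin k))
        (Fintype.card_le_of_surjective (Sum.elim (Sum.elim Subtype.val Subtype.val) Subtype.val) fun p => ?_)
      rcases lt_trichotomy p.1 p.2 with h | h | h
      · exact ⟨Sum.inl (Sum.inl ⟨p, h⟩), rfl⟩
      · exact ⟨Sum.inr ⟨p, h⟩, rfl⟩
      · exact ⟨Sum.inl (Sum.inr ⟨p, h⟩), rfl⟩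
    rw [hD] at hall
    have h6k : 6 * k ≤ k * k := Nat.mul_le_mul_right k h6
    omega
  let W : (P → F) →ₗ[F] (Fin k → Fin k → F) :=
    { toFun := fun w i j => if h : i < j then w ⟨(i, j), h⟩ else 0
      map_add' := fun w w' => by funext i j; by_cases h : i < j <;> simp [h]
      map_smul' := fun c w => by funext i j; by_cases h : i < j <;> simp [h] }
  let Φ : (P → F) →ₗ[F] (Idx k k → F) :=
    { toFun := fun w => ∑ i, (r • ten (W w i) (A *ᵥ Pi.single i 1) - ten (Pi.single i 1) (A *ᵥ W w i))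
      map_add' := fun w w' => by
        rw [← Finset.sum_add_distrib]
        exact Finset.sum_congr rfl fun i _ => by
          rw [map_add, Pi.add_apply, mulVec_add, ten_add_left, ten_add_right, smul_add]; abel
      map_smul' := fun c w => by
        rw [RingHom.id_apply, Finset.smul_sum]
        exact Finset.sum_congr rfl fun i _ => by
          rw [map_smul, Pi.smul_apply, mulVec_smul, ten_smul_left, ten_smul_right, smul_comm, smul_sub] }
  have hmem : ∀ w, Φ w ∈ LinearMap.range (X - 1).mulVecLin := fun w => by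
    show (∑ i, (r • ten (W w i) (A *ᵥ Pi.single i 1) - ten (Pi.single i 1) (A *ᵥ W w i))) ∈
      LinearMap.range (X - 1).mulVecLin
    refine Submodule.sum_mem _ fun i _ => LinearMap.mem_range.2 ⟨ten (Pi.single i 1) (A *ᵥ W w i), ?_⟩
    rw [mulVecLin_apply, sub_mulVec, one_mulVec, hX, hBA, ten_smul_left]
  have hinj : Function.Injective (Φ.codRestrict _ hmem) := by
    rw [← LinearMap.ker_eq_bot, LinearMap.ker_eq_bot']
    intro w hw
    have hl : ∀ l, r • (fun i => W w i l) = W w l := fun l => by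
      refine hA (funext fun j => ?_)
      have h := congrFun (congrArg Subtype.val hw) (l, j)
      simp [Φ, LinearMap.codRestrict_apply, Finset.sum_apply, ten, Finset.sum_sub_distrib, Pi.single_apply,
        sub_eq_zero] at h
      have e : (A *ᵥ fun i => W w i l) j = ∑ i, W w i l * A j i := by
        simp only [mulVec, dotProduct]
        exact Finset.sum_congr rfl fun i _ => mul_comm _ _
      show (A *ᵥ (r • fun i => W w i l)) j = (A *ᵥ W w l) j
      rw [mulVec_smul, Pi.smul_apply, smul_eq_mul, e, Finset.mul_sum]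
      exact h
    funext p
    have h1 := congrFun (hl p.1.1) p.1.2
    simp only [Pi.smul_apply, smul_eq_mul, W, LinearMap.coe_mk, AddHom.coe_mk, dif_pos p.2,
      dif_neg (lt_asymm p.2), mul_zero] at h1
    exact h1.symm
  have := LinearMap.finrank_le_finrank_of_injective hinj
  rw [Module.finrank_fintype_fun_eq_card] at this
  omega

namespace Fl

variable (hF : Fl Q B₁ B₂ J)
include hF

/-- Similitudes respect regular root elements of their eigenvectors. -/
theorem esie_comm {B : Matrix (Fin k) (Fin k) F} {μ σ : F} (hσ : σ ≠ 0) (hμ : μ = σ * σ)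
    (hB : ∀ y y', B₂ (B *ᵥ y) (B *ᵥ y') = μ * B₂ y y') {c z : Fin k → F}
    (hcB : B *ᵥ c = σ • c) (hzB : B *ᵥ z = σ • z) (q : F) (y : Fin k → F) :
    B *ᵥ esie B₂ 1 c z q y = esie B₂ 1 c z q (B *ᵥ y) := by
  have e : ∀ u, B *ᵥ u = σ • u → B₂ (B *ᵥ y) u = σ * B₂ y u := fun u hu => by
    have h := hB y u
    rw [hu, map_smul, smul_eq_mul, hμ, mul_assoc] at h
    exact mul_left_cancel₀ hσ h
  simp only [esie_apply, mulVec_add, mulVec_sub, mulVec_smul, hcB, hzB, e c hcB, e z hzB, smul_smul]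
  match_scalars <;> ring

/-- An involution of the stabiliser moving no more than two slices commutes with a regular root element. -/
theorem exists_root_of_rank (h6 : 6 ≤ k) {h : Isom Q} (hN : h ∈ hF.Nr) (hh : h * h = 1)
    (hrk : finrank F (LinearMap.range (mat Q h - 1).mulVecLin) ≤ k * 2) :
    ∃ (c z : Fin k → F) (hc : B₂ c c = 0) (hz : B₂ z c = 0), c ≠ 0 ∧ B₂ z z ≠ 0 ∧ Commute h (hF.rt hc hz) := by
  classical
  have h2 := hF.aset.two
  have hhv : ∀ v, mat Q h *ᵥ (mat Q h *ᵥ v) = v := fun v => by rw [← mul_vec, hh, mat_one, one_mulVec]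
  by_cases hK : h ∈ Kr Q
  swap
  · exfalso
    obtain ⟨A, B, μ, -, hv, -, -⟩ := hF.kr_sim (hN.resolve_left hK)
    have hvh : ∀ x y, mat Q h *ᵥ ten x y =
        ten ((B : Matrix (Fin k) (Fin k) F) *ᵥ y) ((A : Matrix (Fin k) (Fin k) F) *ᵥ x) := fun x y => by
      rw [show h = J * (J * h) by rw [← mul_assoc, hF.J_sq, one_mul], mul_vec, hv, hF.flip]
    obtain ⟨r, hr0, -, hr⟩ := scalar_of_ten
      (A := (B : Matrix (Fin k) (Fin k) F) * (A : Matrix (Fin k) (Fin k) F))
      (B := (A : Matrix (Fin k) (Fin k) F) * (B : Matrix (Fin k) (Fin k) F)) (fun x y => by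
        rw [← mulVec_mulVec, ← mulVec_mulVec, ← hvh, ← hvh, hhv]) hF.kpos
    have := swap_rank h6 hvh (r := r⁻¹) (fun x => by rw [mulVec_mulVec]; exact hr x)
      (mulVec_injective_iff_isUnit.mpr A.isUnit)
    omega
  obtain ⟨A, B, μ, hμ0, hv, -, hB⟩ := hF.kr_sim hK
  obtain ⟨r, hr0, hr, -⟩ := scalar_of_ten
    (A := (A : Matrix (Fin k) (Fin k) F) * (A : Matrix (Fin k) (Fin k) F))
    (B := (B : Matrix (Fin k) (Fin k) F) * (B : Matrix (Fin k) (Fin k) F)) (fun x y => by
      rw [← mulVec_mulVec, ← mulVec_mulVec, ← hv, ← hv, hhv]) hF.kpos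
  set X := (B : Matrix (Fin k) (Fin k) F)
  have hXX : ∀ v, X *ᵥ (X *ᵥ v) = r • v := fun v => by rw [mulVec_mulVec, hr]
  have hno : ¬ Triple X := fun ht => by
    have := ht.rank_le hv
    omega
  obtain ⟨s, hs⟩ : IsSquare r := by
    by_contra hr'
    exact hno (triple_of_nonsquare hXX hr' h6)
  have hs0 : s ≠ 0 := fun h0 => hr0 (by rw [hs, h0, zero_mul])
  have hμ2 : μ * μ = r * r := by
    obtain ⟨y₁, hy₁⟩ := hF.aset.tset.f₂.exists_one (show (Pi.single (⟨0, hF.kpos⟩ : Fin k) (1 : F) : Fin k → F) ≠ 0 by simp)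
    have h1 := hB (X *ᵥ y₁) (X *ᵥ Pi.single ⟨0, hF.kpos⟩ 1)
    rw [hXX, hXX, hB, hy₁, map_smul, map_smul, LinearMap.smul_apply, hy₁, smul_eq_mul, smul_eq_mul] at h1
    linear_combination -h1
  rcases mul_self_eq_mul_self_iff.1 hμ2 with hμ | hμ
  · -- an orthogonal involution
    set T : Matrix (Fin k) (Fin k) F := s⁻¹ • X with hT
    have hTT : T * T = 1 := Matrix.ext_iff_mulVec.2 fun v => by
      rw [one_mulVec, ← mulVec_mulVec, hT, smul_mulVec, smul_mulVec, mulVec_smul, hXX, smul_smul, smul_smul, hs]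
      rw [show s⁻¹ * s⁻¹ * (s * s) = 1 by field_simp, one_smul]
    let T' : isoG B₂ := ⟨⟨T, T, hTT, hTT⟩, fun y y' => by
      show B₂ (T *ᵥ y) (T *ᵥ y') = B₂ y y'
      rw [hT, smul_mulVec, smul_mulVec, map_smul, map_smul, LinearMap.smul_apply, hB, hμ, hs, smul_eq_mul, smul_eq_mul]
      field_simp⟩
    obtain ⟨τ, c, z, hτ, hc0, hc, hz, hzz, hcT, hzT⟩ := hF.exists_regular_pair (by omega) (T := T')
      (Subtype.ext (Units.ext hTT))
    have hX : ∀ u, T *ᵥ u = τ • u → X *ᵥ u = (s * τ) • u := fun u hu => by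
      rw [← smul_smul, ← hu, hT, smul_mulVec, smul_smul, mul_inv_cancel₀ hs0, one_smul]
    refine ⟨c, z, hc, hz, hc0, hzz, hF.ext fun x y => ?_⟩
    rw [mul_vec, mul_vec, hF.rt_ten, hv, hv, hF.rt_ten, hF.esie_comm (mul_ne_zero hs0
      (fun h0 => by simp [h0] at hτ)) (by rw [hμ, hs]; linear_combination -(s * s) * hτ) hB (hX c hcT) (hX z hzT)]
  · -- eigenspaces totally isotropic
    exfalso
    let E : F → Submodule F (Fin k → F) := fun τ => LinearMap.ker (X.mulVecLin - τ • LinearMap.id)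
    have hE : ∀ τ v, v ∈ E τ ↔ X *ᵥ v = τ • v := fun τ v => by
      show X *ᵥ v - τ • v = 0 ↔ _
      rw [sub_eq_zero]
    have hiso : ∀ τ, τ * τ = r → finrank F (E τ) + finrank F (E τ) ≤ k := fun τ hτ => by
      have hle : E τ ≤ B₂.orthogonal (E τ) := fun u hu w hw => by
        have h1 := hB w u
        rw [(hE τ u).1 hu, (hE τ w).1 hw, map_smul, map_smul, LinearMap.smul_apply, smul_eq_mul, smul_eq_mul,
          ← mul_assoc, hτ, hμ] at h1
        show B₂ w u = 0
        have h3 : (2 * r) * B₂ w u = 0 := by linear_combination h1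
        exact (mul_eq_zero.1 h3).resolve_left (mul_ne_zero h2 hr0)
      have := Submodule.finrank_mono hle
      rw [hF.aset.tset.f₂.finrank_orth] at this
      have := (Submodule.finrank_le (E τ)).trans_eq (Module.finrank_fin_fun F)
      omega
    have hsup : E s ⊔ E (-s) = ⊤ := eq_top_iff.2 fun v _ => by
      have e : v = (2 * s)⁻¹ • (s • v + X *ᵥ v) + (2 * s)⁻¹ • (s • v - X *ᵥ v) := by
        match_scalars <;> (field_simp; try ring)
      rw [e]
      refine Submodule.add_mem_sup (Submodule.smul_mem _ _ ((hE _ _).2 ?_)) (Submodule.smul_mem _ _ ((hE _ _).2 ?_))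
      · rw [mulVec_add, mulVec_smul, hXX, hs, smul_add, smul_smul, add_comm]
      · rw [mulVec_sub, mulVec_smul, hXX, hs, neg_smul, smul_sub, smul_smul]; abel
    have hdim := Submodule.finrank_add_le_finrank_add_finrank (E s) (E (-s))
    rw [hsup, finrank_top, Module.finrank_fin_fun] at hdim
    have hdp := hiso s hs.symm
    have hdn := hiso (-s) (by rw [hs]; ring)
    obtain ⟨p, hp⟩ := exists_linearIndependent_of_le_finrank (R := F) (M := E s) (n := 3) (by omega)
    obtain ⟨n, hn⟩ := exists_linearIndependent_of_le_finrank (R := F) (M := E (-s)) (n := 3) (by omega)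
    refine hno ⟨fun i => (p i : Fin k → F) + n i, fun a b hab => ?_⟩
    set P : E s := ∑ i, (a i + s * b i) • p i with hP
    set N : E (-s) := ∑ i, (a i - s * b i) • n i with hN
    have hPN : (P : Fin k → F) + N = 0 := by
      rw [← hab, hP, hN]
      simp only [Submodule.coe_sum, Submodule.coe_smul, ← Finset.sum_add_distrib]
      refine Finset.sum_congr rfl fun i _ => ?_
      rw [mulVec_add, (hE _ _).1 (p i).2, (hE _ _).1 (n i).2]
      module
    have hP0 : (P : Fin k → F) = 0 := by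
      have h1 := (hE _ _).1 P.2
      have h3 := (hE _ _).1 N.2
      rw [eq_neg_of_add_eq_zero_right hPN, mulVec_neg, h1] at h3
      exact (smul_eq_zero.1 (show (2 * s) • (P : Fin k → F) = 0 by
        linear_combination (norm := module) -h3)).resolve_left (mul_ne_zero h2 hs0)
    rw [hP0, zero_add] at hPN
    have ha := Fintype.linearIndependent_iff.1 hp (fun i => a i + s * b i) (Subtype.ext hP0)
    have hb := Fintype.linearIndependent_iff.1 hn (fun i => a i - s * b i) (Subtype.ext hPN)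
    have h3 : ∀ i, a i = 0 := fun i =>
      (mul_eq_zero.1 (show (2 : F) * a i = 0 by linear_combination ha i + hb i)).resolve_left h2
    refine ⟨funext h3, funext fun i => ?_⟩
    have := ha i
    rw [h3, zero_add] at this
    exact (mul_eq_zero.1 this).resolve_left hs0

end Fl

end CfsgLib.TWGap
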