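import Cfsg.Agent.TensorWreathOrth.Gap.Fusion

/-!
# Centralisers of one-sided involutions
-/

set_option autoImplicit false
set_option linter.unusedSectionVars false

namespace CfsgLib.TWGap

open Matrix Module CfsgLib.Spinor CfsgLib.OrthMax CfsgLib.TensorOrth
open CfsgLib.TensorMax (Idx ten ten_add_left ten_add_right ten_smul_left ten_smul_right ten_eq_zero
  ten_inj_left ten_inj_right)
open CfsgLib.TensorUnitary (ten_induction)

variable {F : Type*} [Field F] [Fintype F] {k : ℕ} {Q : QuadraticForm F (Idx k k → F)}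
  {B₁ B₂ : LinearMap.BilinForm F (Fin k → F)} {J : Isom Q} {M : Subgroup (Isom Q)}

namespace Fl

variable (hF : Fl Q B₁ B₂ J)
include hF

/-- A regular root element fixes what is orthogonal to its vectors. -/
theorem rt_fix {c z : Fin k → F} (hc : B₂ c c = 0) (hz : B₂ z c = 0) {v : Idx k k → F}
    (h1 : evB B₂ c v = 0) (h2 : evB B₂ z v = 0) : mat Q (hF.rt hc hz) *ᵥ v = v := by
  have key : ∀ v, mat Q (hF.rt hc hz) *ᵥ v - v =
      ten (-(evB B₂ z v) + (-B₂ z z / 2) • evB B₂ c v) c + ten (evB B₂ c v) z := fun v => by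
    induction v using ten_induction with
    | hadd v w hv hw =>
      rw [mulVec_add, add_sub_add_comm, hv, hw, map_add, map_add, smul_add, neg_add, ← add_add_add_comm (ten _ c),
        ← ten_add_left, ← ten_add_left]
      congr 2
      abel
    | h0 => simp [ten_eq_zero.2]
    | h x y =>
      rw [hF.rt_ten, ← CfsgLib.TensorSlice.ten_sub_right, evB_ten, evB_ten, smul_smul, ← neg_smul, ← add_smul,
        ten_smul_left, ten_smul_left, ← ten_smul_right, ← ten_smul_right, ← ten_add_right, esie_apply]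
      congr 1
      module
  exact sub_eq_zero.1 (by rw [key, h1, h2, smul_zero, neg_zero, add_zero, ten_eq_zero.2 (Or.inl rfl),
    ten_eq_zero.2 (Or.inl rfl), add_zero])

/-- The contraction by an eigenvector of an involutive isometry. -/
theorem evB_kR {T : isoG B₂} {c : Fin k → F} {τ : F} (hτ : τ * τ = 1)
    (hc : (T.1 : Matrix (Fin k) (Fin k) F) *ᵥ c = τ • c) (v : Idx k k → F) :
    evB B₂ c (mat Q (hF.aset.kR T) *ᵥ v) = τ • evB B₂ c v := by
  induction v using ten_induction with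
  | hadd v w hv hw => rw [mulVec_add, map_add, hv, hw, map_add, smul_add]
  | h0 => simp
  | h x y =>
    rw [hF.aset.kR_ten, evB_ten, evB_ten, smul_smul]
    congr 1
    have h := T.2 y c
    rw [hc, map_smul, smul_eq_mul] at h
    linear_combination τ * h - (B₂ ((T.1 : Matrix (Fin k) (Fin k) F) *ᵥ y) c) * hτ

/-- An involution of a factor has a regular pair in an eigenspace. -/
theorem exists_regular_pair (h5 : 5 ≤ k) {T : isoG B₂} (hT : T * T = 1) :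
    ∃ (τ : F) (c z : Fin k → F), τ * τ = 1 ∧ c ≠ 0 ∧ B₂ c c = 0 ∧ B₂ z c = 0 ∧ B₂ z z ≠ 0 ∧
      (T.1 : Matrix (Fin k) (Fin k) F) *ᵥ c = τ • c ∧ (T.1 : Matrix (Fin k) (Fin k) F) *ᵥ z = τ • z := by
  classical
  have h2 := hF.aset.two
  have hB := hF.aset.tset.f₂
  set X := (T.1 : Matrix (Fin k) (Fin k) F)
  have hXX : ∀ v, X *ᵥ (X *ᵥ v) = v := fun v => by
    have h := congrArg (fun S : isoG B₂ => (S.1 : Matrix (Fin k) (Fin k) F) *ᵥ v) hT
    simpa [X, mulVec_mulVec] using h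
  let E : F → Submodule F (Fin k → F) := fun τ => LinearMap.ker (X.mulVecLin - τ • LinearMap.id)
  have hE : ∀ τ v, v ∈ E τ ↔ X *ᵥ v = τ • v := fun τ v => by
    show X *ᵥ v - τ • v = 0 ↔ _
    rw [sub_eq_zero]
  have horth : ∀ x ∈ E 1, ∀ y ∈ E (-1), B₂ x y = 0 := fun x hx y hy => by
    have h := T.2 x y
    rw [(hE 1 x).1 hx, (hE (-1) y).1 hy, one_smul, map_smul, smul_eq_mul] at h
    exact (mul_eq_zero.1 (show (2 : F) * B₂ x y = 0 by linear_combination -h)).resolve_left h2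
  have hsup : E 1 ⊔ E (-1) = ⊤ := eq_top_iff.2 fun v _ => by
    have e : v = (2 : F)⁻¹ • (v + X *ᵥ v) + (2 : F)⁻¹ • (v - X *ᵥ v) := by
      match_scalars <;> (field_simp; try ring)
    rw [e]
    refine Submodule.add_mem_sup (Submodule.smul_mem _ _ ((hE _ _).2 ?_)) (Submodule.smul_mem _ _ ((hE _ _).2 ?_))
    · rw [mulVec_add, hXX, one_smul, add_comm]
    · rw [mulVec_sub, hXX, neg_one_smul, neg_sub]
  have hnd : ∀ S S' : Submodule F (Fin k → F), S ⊔ S' = ⊤ → (∀ x ∈ S, ∀ y ∈ S', B₂ x y = 0) →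
      ∀ x ∈ S, x ≠ 0 → ∃ y ∈ S, B₂ y x ≠ 0 := fun S S' hS ho x hx hx0 => by
    by_contra! hall
    refine hx0 (hB.sep' fun v => ?_)
    obtain ⟨p, hp', q, hq, rfl⟩ := Submodule.mem_sup.1 (show v ∈ S ⊔ S' by rw [hS]; trivial)
    rw [map_add, LinearMap.add_apply, hall p hp', hF.aset.symm₂ q x, ho x hx q hq, add_zero]
  have hdim := Submodule.finrank_add_le_finrank_add_finrank (E 1) (E (-1))
  rw [hsup, finrank_top, Module.finrank_fin_fun] at hdim
  -- a regular pair in an eigenspace of dimension at least three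
  have hreg : ∀ S S' : Submodule F (Fin k → F), S ⊔ S' = ⊤ → (∀ x ∈ S, ∀ y ∈ S', B₂ x y = 0) →
      3 ≤ finrank F S → ∃ c ∈ S, ∃ z ∈ S, c ≠ 0 ∧ B₂ c c = 0 ∧ B₂ z c = 0 ∧ B₂ z z ≠ 0 := fun S S' hS ho h3 => by
    obtain ⟨c, hcS, hc0, hc⟩ := hB.exists_iso S h3
    obtain ⟨x, hxS, hx⟩ := hnd S S' hS ho c hcS hc0
    obtain ⟨d, hdS, hd, hdc⟩ := hB.exists_partner_in hcS hxS hc hx
    by_contra! hall
    have hS1 := hB.finrank_le_inf S c
    obtain ⟨w, ⟨hwS, hwc'⟩, hw0⟩ := (Submodule.ne_bot_iff _).1 (show S ⊓ cperp B₂ c ⊓ cperp B₂ d ≠ ⊥ from fun h => by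
      have h1 := hB.finrank_le_inf (S ⊓ cperp B₂ c) d
      rw [h, finrank_bot] at h1
      omega)
    obtain ⟨hwS, hwc⟩ := hwS
    have hq : ∀ u ∈ S, B₂ u c = 0 → B₂ u u = 0 := fun u hu huc => hall c hcS u hu hc0 hc huc
    refine hw0 ?_
    by_contra hw'
    obtain ⟨u, huS, hu⟩ := hnd S S' hS ho w hwS hw'
    apply hu
    have e1 : B₂ (u - B₂ u c • d) c = 0 := by simp [hdc]
    have h1 := hq _ (S.sub_mem huS (S.smul_mem _ hdS)) e1
    have h2' := hq w hwS hwc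
    have h3' := hq (u - B₂ u c • d + w) (S.add_mem (S.sub_mem huS (S.smul_mem _ hdS)) hwS)
      (by rw [map_add, LinearMap.add_apply, e1, zero_add]; exact hwc)
    simp only [map_add, map_sub, map_smul, LinearMap.add_apply, LinearMap.sub_apply, LinearMap.smul_apply,
      smul_eq_mul, hF.aset.symm₂ w u, hF.aset.symm₂ d w, show B₂ w d = 0 from hwc'] at h1 h3'
    exact (mul_eq_zero.1 (show (2 : F) * B₂ u w = 0 by linear_combination h3' - h1 - h2')).resolve_left h2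
  have horth' : ∀ x ∈ E (-1), ∀ y ∈ E 1, B₂ x y = 0 := fun x hx y hy => by
    rw [hF.aset.symm₂]; exact horth y hy x hx
  rcases le_or_gt 3 (finrank F (E 1)) with h3 | h3
  · obtain ⟨c, hcS, z, hzS, hc0, hc, hz, hzz⟩ := hreg _ _ hsup horth h3
    exact ⟨1, c, z, by ring, hc0, hc, hz, hzz, (hE _ _).1 hcS, (hE _ _).1 hzS⟩
  · obtain ⟨c, hcS, z, hzS, hc0, hc, hz, hzz⟩ := hreg _ _ (by rw [sup_comm]; exact hsup) horth' (by omega)
    exact ⟨-1, c, z, by ring, hc0, hc, hz, hzz, (hE _ _).1 hcS, (hE _ _).1 hzS⟩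

/-- An involution of a factor splits off a regular pair from an anisotropic vector. -/
theorem exists_regular_of_invol (h6 : 6 ≤ k) {T : isoG B₂} (hT : T * T = 1)
    (hp : ∃ v, v ≠ 0 ∧ (T.1 : Matrix (Fin k) (Fin k) F) *ᵥ v = v)
    (hn : ∃ v, v ≠ 0 ∧ (T.1 : Matrix (Fin k) (Fin k) F) *ᵥ v = -v) :
    ∃ (τ : F) (c z e : Fin k → F), τ * τ = 1 ∧ c ≠ 0 ∧ B₂ c c = 0 ∧ B₂ z c = 0 ∧ B₂ z z ≠ 0 ∧ B₂ e e ≠ 0 ∧
      (T.1 : Matrix (Fin k) (Fin k) F) *ᵥ c = τ • c ∧ (T.1 : Matrix (Fin k) (Fin k) F) *ᵥ z = τ • z ∧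
      (T.1 : Matrix (Fin k) (Fin k) F) *ᵥ e = -τ • e := by
  obtain ⟨τ, c, z, hτ, hc0, hc, hz, hzz, hcT, hzT⟩ := hF.exists_regular_pair (by omega) hT
  have h2 := hF.aset.two
  have hB := hF.aset.tset.f₂
  set X := (T.1 : Matrix (Fin k) (Fin k) F)
  have hXX : ∀ v, X *ᵥ (X *ᵥ v) = v := fun v => by
    have h := congrArg (fun S : isoG B₂ => (S.1 : Matrix (Fin k) (Fin k) F) *ᵥ v) hT
    simpa [X, mulVec_mulVec] using h
  let E : F → Submodule F (Fin k → F) := fun τ => LinearMap.ker (X.mulVecLin - τ • LinearMap.id)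
  have hE : ∀ τ v, v ∈ E τ ↔ X *ᵥ v = τ • v := fun τ v => by
    show X *ᵥ v - τ • v = 0 ↔ _
    rw [sub_eq_zero]
  have horth : ∀ x ∈ E 1, ∀ y ∈ E (-1), B₂ x y = 0 := fun x hx y hy => by
    have h := T.2 x y
    rw [(hE 1 x).1 hx, (hE (-1) y).1 hy, one_smul, map_smul, smul_eq_mul] at h
    exact (mul_eq_zero.1 (show (2 : F) * B₂ x y = 0 by linear_combination -h)).resolve_left h2
  have hsup : E 1 ⊔ E (-1) = ⊤ := eq_top_iff.2 fun v _ => by
    have e : v = (2 : F)⁻¹ • (v + X *ᵥ v) + (2 : F)⁻¹ • (v - X *ᵥ v) := by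
      match_scalars <;> (field_simp; try ring)
    rw [e]
    refine Submodule.add_mem_sup (Submodule.smul_mem _ _ ((hE _ _).2 ?_)) (Submodule.smul_mem _ _ ((hE _ _).2 ?_))
    · rw [mulVec_add, hXX, one_smul, add_comm]
    · rw [mulVec_sub, hXX, neg_one_smul, neg_sub]
  have hnd : ∀ S S' : Submodule F (Fin k → F), S ⊔ S' = ⊤ → (∀ x ∈ S, ∀ y ∈ S', B₂ x y = 0) →
      ∀ x ∈ S, x ≠ 0 → ∃ y ∈ S, B₂ y x ≠ 0 := fun S S' hS ho x hx hx0 => by
    by_contra! hall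
    refine hx0 (hB.sep' fun v => ?_)
    obtain ⟨p, hp', q, hq, rfl⟩ := Submodule.mem_sup.1 (show v ∈ S ⊔ S' by rw [hS]; trivial)
    rw [map_add, LinearMap.add_apply, hall p hp', hF.aset.symm₂ q x, ho x hx q hq, add_zero]
  have hdim := Submodule.finrank_add_le_finrank_add_finrank (E 1) (E (-1))
  rw [hsup, finrank_top, Module.finrank_fin_fun] at hdim
  -- an anisotropic vector of an eigenspace
  have haniso : ∀ S S' : Submodule F (Fin k → F), S ⊔ S' = ⊤ → (∀ x ∈ S, ∀ y ∈ S', B₂ x y = 0) →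
      ∀ v ∈ S, v ≠ 0 → ∃ e ∈ S, B₂ e e ≠ 0 := fun S S' hS ho v hv hv0 => by
    obtain ⟨w, hw, hwv⟩ := hnd S S' hS ho v hv hv0
    by_contra! hall
    have := hall (w + v) (S.add_mem hw hv)
    rw [map_add, map_add, LinearMap.add_apply, LinearMap.add_apply, hall w hw, hall v hv, hF.aset.symm₂ v w] at this
    exact hwv ((mul_eq_zero.1 (show (2 : F) * B₂ w v = 0 by linear_combination this)).resolve_left h2)
  have horth' : ∀ x ∈ E (-1), ∀ y ∈ E 1, B₂ x y = 0 := fun x hx y hy => by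
    rw [hF.aset.symm₂]; exact horth y hy x hx
  rcases mul_self_eq_one_iff.1 hτ with rfl | rfl
  · obtain ⟨v, hv0, hv⟩ := hn
    obtain ⟨e, heS, he⟩ := haniso _ _ (by rw [sup_comm]; exact hsup) horth' v
      ((hE _ _).2 (by rw [hv, neg_one_smul])) hv0
    exact ⟨1, c, z, e, hτ, hc0, hc, hz, hzz, he, hcT, hzT, (hE _ _).1 heS⟩
  · obtain ⟨v, hv0, hv⟩ := hp
    obtain ⟨e, heS, he⟩ := haniso _ _ hsup horth v ((hE _ _).2 (by rw [hv, one_smul])) hv0
    exact ⟨-1, c, z, e, hτ, hc0, hc, hz, hzz, he, hcT, hzT, by rw [neg_neg]; exact (hE _ _).1 heS⟩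

end Fl

namespace GCtx

variable {hF : Fl Q B₁ B₂ J} (hG : GCtx hF M)
include hG

/-- An element commuting with a one-sided involution that has a regular pair in one eigenspace and an
anisotropic vector in the other. -/
theorem mem_nr_of_comm_kR {y : Isom Q} (hy : y ∈ M) {T : isoG B₂}
    (hT : Commute y (hF.aset.kR T)) {τ : F} {c z e : Fin k → F} (hτ : τ * τ = 1) (hc0 : c ≠ 0)
    (hc : B₂ c c = 0) (hz : B₂ z c = 0) (hzz : B₂ z z ≠ 0) (he : B₂ e e ≠ 0)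
    (hcT : (T.1 : Matrix (Fin k) (Fin k) F) *ᵥ c = τ • c) (hzT : (T.1 : Matrix (Fin k) (Fin k) F) *ᵥ z = τ • z)
    (heT : (T.1 : Matrix (Fin k) (Fin k) F) *ᵥ e = -τ • e) : y ∈ hF.Nr := by
  have h2 := hF.aset.two
  have hτ0 : τ ≠ 0 := fun h => by simp [h] at hτ
  have hfix : ∀ v, mat Q (hF.aset.kR T) *ᵥ v = -τ • v → mat Q (hF.rt hc hz) *ᵥ v = v := fun v hv => by
    have key : ∀ c', (T.1 : Matrix (Fin k) (Fin k) F) *ᵥ c' = τ • c' → evB B₂ c' v = 0 := fun c' hc' => by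
      have h := hF.evB_kR hτ hc' v
      rw [hv, map_smul, neg_smul, eq_comm, eq_neg_iff_add_eq_zero, ← add_smul, ← two_mul] at h
      exact (smul_eq_zero.1 h).resolve_left (mul_ne_zero h2 hτ0)
    exact hF.rt_fix hc hz (key c hcT) (key z hzT)
  set u := y * hF.rt hc hz * y⁻¹ with hu
  have huM : u ∈ M := M.mul_mem (M.mul_mem hy (hG.rt_mem hc hz)) (M.inv_mem hy)
  have hu' : u ∈ Kr Q := hG.mem_kr_of_fix huM he fun x => by
    rw [hu, Fl.mul_vec, Fl.mul_vec, hfix, ← Fl.mul_vec, mul_inv_cancel, mat_one, one_mulVec]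
    rw [← Fl.mul_vec, (hT.symm.inv_right).eq, Fl.mul_vec, hF.aset.kR_ten, heT, ten_smul_right, mulVec_smul]
  exact hG.mem_nr_of_fuse hy hc0 hc hz hzz hu'

/-- The centraliser of a one-sided involution lies in the stabiliser. -/
theorem mem_nr_of_comm_kR_invol (h6 : 6 ≤ k) {y : Isom Q} (hy : y ∈ M) {T : isoG B₂} (hTT : T * T = 1)
    (hp : ∃ v, v ≠ 0 ∧ (T.1 : Matrix (Fin k) (Fin k) F) *ᵥ v = v)
    (hn : ∃ v, v ≠ 0 ∧ (T.1 : Matrix (Fin k) (Fin k) F) *ᵥ v = -v)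
    (hT : Commute y (hF.aset.kR T)) : y ∈ hF.Nr := by
  obtain ⟨τ, c, z, e, hτ, hc0, hc, hz, hzz, he, hcT, hzT, heT⟩ := hF.exists_regular_of_invol h6 hTT hp hn
  exact hG.mem_nr_of_comm_kR hy hT hτ hc0 hc hz hzz he hcT hzT heT

/-- The left version. -/
theorem mem_nr_of_comm_kL_invol (h6 : 6 ≤ k) {y : Isom Q} (hy : y ∈ M) {T : isoG B₂} (hTT : T * T = 1)
    (hp : ∃ v, v ≠ 0 ∧ (T.1 : Matrix (Fin k) (Fin k) F) *ᵥ v = v)
    (hn : ∃ v, v ≠ 0 ∧ (T.1 : Matrix (Fin k) (Fin k) F) *ᵥ v = -v)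
    (hT : Commute y (hF.kL T)) : y ∈ hF.Nr := by
  refine hF.conj_nr.1 (hG.flip.mem_nr_of_comm_kR_invol h6 (hG.flip_mem hy) hTT hp hn ?_)
  have e : J * hF.kL T * J = hF.aset.kR T := by rw [hF.kL_eq, hF.conj_conj]
  show _ * _ = _ * _
  rw [← e, hF.conj_mul, hF.conj_mul, hT.eq]

end GCtx

end CfsgLib.TWGap
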