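import Cfsg.Agent.TensorWreathOrth.Gap.Basic

/-!
# The standing hypotheses: an overgroup without outer elements
-/

set_option autoImplicit false
set_option linter.unusedSectionVars false

namespace CfsgLib.TWGap

open Matrix Module CfsgLib.Spinor CfsgLib.OrthMax CfsgLib.TensorOrth
open CfsgLib.TensorMax (Idx ten ten_add_left ten_add_right ten_smul_left ten_smul_right ten_eq_zero
  ten_inj_left ten_inj_right)
open CfsgLib.TensorSlice (ASet)

variable {F : Type*} [Field F] [Fintype F] {k : ℕ} {Q : QuadraticForm F (Idx k k → F)}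
  {B₁ B₂ : LinearMap.BilinForm F (Fin k → F)} {J : Isom Q} {M : Subgroup (Isom Q)}

/-- `M` contains the stabiliser in `Ω`; what it shares with a conjugate by an outer reflection is in the
stabiliser; it maps no singular slice to a slice of the same side from outside. -/
structure GCtx (hF : Fl Q B₁ B₂ J) (M : Subgroup (Isom Q)) : Prop where
  mem : ∀ g ∈ Cfsg.Omega F ⇑Q, g ∈ hF.Nr → g ∈ M
  le : M ≤ Cfsg.Omega F ⇑Q
  plane : k = 4 → NoPlane B₂
  outR : ∀ y ∈ M, ∀ e, B₂ e e ≠ 0 → hF.aset.R e * y * hF.aset.R e ∈ M → y ∈ hF.Nr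
  outL : ∀ y ∈ M, ∀ e, B₂ e e ≠ 0 → hF.L e * y * hF.L e ∈ M → y ∈ hF.Nr
  sliceR : ∀ y ∈ M, ∀ c c' : Fin k → F, c ≠ 0 → B₂ c c = 0 → c' ≠ 0 → B₂ c' c' = 0 →
    (∀ x, ∃ x', mat Q y *ᵥ ten x c = ten x' c') → y ∈ Kr Q
  sliceL : ∀ y ∈ M, ∀ c c' : Fin k → F, c ≠ 0 → B₂ c c = 0 → c' ≠ 0 → B₂ c' c' = 0 →
    (∀ x, ∃ x', mat Q y *ᵥ ten c x = ten c' x') → y ∈ Kr Q

namespace Fl

variable (hF : Fl Q B₁ B₂ J)
include hF

theorem conj_J (g : Isom Q) : J * g * J⁻¹ = J * g * J := by rw [hF.J_inv]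

theorem conj_conj (g : Isom Q) : J * (J * g * J) * J = g := by
  rw [show J * (J * g * J) * J = (J * J) * g * (J * J) by group, hF.J_sq, one_mul, mul_one]

theorem conj_mul (g h : Isom Q) : J * g * J * (J * h * J) = J * (g * h) * J := by
  rw [show J * g * J * (J * h * J) = J * g * (J * J) * h * J by group, hF.J_sq, mul_one]; group

theorem conj_kr {g : Isom Q} : J * g * J ∈ Kr Q ↔ g ∈ Kr Q :=
  ⟨fun h => by simpa [hF.conj_conj] using hF.flip_conj_mem h, hF.flip_conj_mem⟩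

theorem conj_nr {g : Isom Q} : J * g * J ∈ hF.Nr ↔ g ∈ hF.Nr := by rw [← hF.conj_J, hF.nr_conj]

theorem conj_L (e : Fin k → F) : J * hF.L e * J = hF.aset.R e := by rw [hF.L_eq, hF.conj_conj]

theorem conj_ten (g : Isom Q) (x y : Fin k → F) :
    mat Q (J * g * J) *ᵥ ten x y = mat Q J *ᵥ (mat Q g *ᵥ ten y x) := by
  rw [mul_vec, mul_vec, hF.flip]

end Fl

namespace GCtx

variable {hF : Fl Q B₁ B₂ J} (hG : GCtx hF M)
include hG

theorem mem_kr {g : Isom Q} (hg : g ∈ Cfsg.Omega F ⇑Q) (hgK : g ∈ Kr Q) : g ∈ M := hG.mem g hg (Or.inl hgK)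

theorem flip : GCtx hF (M.comap (MulAut.conj J).toMonoidHom) := by
  have hc : ∀ g, g ∈ M.comap (MulAut.conj J).toMonoidHom ↔ J * g * J ∈ M := fun g => by
    rw [← hF.conj_J]; rfl
  refine ⟨fun g hg hgN => (hc g).2 (hG.mem _ (by rw [← hF.conj_J]; exact omega_conj hg J) (hF.conj_nr.2 hgN)),
    fun g hg => ?_, hG.plane, fun y hy e he h => ?_, fun y hy e he h => ?_,
    fun y hy c c' hc0 hcc hc0' hcc' h => ?_, fun y hy c c' hc0 hcc hc0' hcc' h => ?_⟩
  · have h := omega_conj (hG.le ((hc g).1 hg)) J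
    rwa [hF.conj_J, hF.conj_conj] at h
  · rw [hc] at h hy
    refine hF.conj_nr.1 (hG.outL _ hy e he ?_)
    rw [← hF.conj_mul, ← hF.conj_mul, ← hF.L_eq] at h
    exact h
  · rw [hc] at h hy
    refine hF.conj_nr.1 (hG.outR _ hy e he ?_)
    rw [← hF.conj_mul, ← hF.conj_mul, hF.conj_L] at h
    exact h
  · rw [hc] at hy
    refine hF.conj_kr.1 (hG.sliceL _ hy c c' hc0 hcc hc0' hcc' fun x => ?_)
    obtain ⟨x', hx'⟩ := h x
    exact ⟨x', by rw [hF.conj_ten, hx', hF.flip]⟩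
  · rw [hc] at hy
    refine hF.conj_kr.1 (hG.sliceR _ hy c c' hc0 hcc hc0' hcc' fun x => ?_)
    obtain ⟨x', hx'⟩ := h x
    exact ⟨x', by rw [hF.conj_ten, hx', hF.flip]⟩

theorem flip_mem {y : Isom Q} (hy : y ∈ M) : J * y * J ∈ M.comap (MulAut.conj J).toMonoidHom := by
  show J * (J * y * J) * J⁻¹ ∈ M
  rwa [hF.conj_J, hF.conj_conj]

theorem rt_mem {c z : Fin k → F} (hc : B₂ c c = 0) (hz : B₂ z c = 0) : hF.rt hc hz ∈ M :=
  hG.mem_kr (hF.rt_omega hc hz) (hF.rt_kr hc hz)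

theorem rtL_mem {c z : Fin k → F} (hc : B₂ c c = 0) (hz : B₂ z c = 0) : J * hF.rt hc hz * J ∈ M :=
  hG.mem_kr (by rw [← hF.conj_J]; exact omega_conj (hF.rt_omega hc hz) J) (hF.flip_conj_mem (hF.rt_kr hc hz))

/-- An element taking an outer reflection to one of the same side. -/
theorem mem_of_conj_R {y : Isom Q} (hy : y ∈ M) {e e' : Fin k → F} (he : B₂ e e ≠ 0) (he' : B₂ e' e' ≠ 0)
    (h : y * hF.aset.R e * y⁻¹ = hF.aset.R e') : y ∈ hF.Nr := by
  refine hG.outR y hy e he ?_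
  rw [show hF.aset.R e * y * hF.aset.R e = hF.aset.R e * (y * hF.aset.R e * y⁻¹) * y by group, h]
  exact M.mul_mem (hG.mem_kr (hF.RR_omega he he') ((Kr Q).mul_mem (hF.aset.R_mem e) (hF.aset.R_mem e'))) hy

/-- An element commuting with an outer reflection. -/
theorem mem_of_comm_R {y : Isom Q} (hy : y ∈ M) {e : Fin k → F} (he : B₂ e e ≠ 0)
    (h : y * hF.aset.R e = hF.aset.R e * y) : y ∈ hF.Nr :=
  hG.mem_of_conj_R hy he he (by rw [h, mul_inv_cancel_right])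

/-- An element fixing an anisotropic slice pointwise. -/
theorem mem_kr_of_fix {y : Isom Q} (hy : y ∈ M) {e : Fin k → F} (he : B₂ e e ≠ 0)
    (h : ∀ x, mat Q y *ᵥ ten x e = ten x e) : y ∈ Kr Q :=
  hF.mem_kr_of_slice (hG.mem_of_comm_R hy he (hF.aset.commute_R he h)) (fun h0 => he (by simp [h0]))
    fun x => ⟨x, h x⟩

/-- The left version. -/
theorem mem_kr_of_fixL {y : Isom Q} (hy : y ∈ M) {e : Fin k → F} (he : B₂ e e ≠ 0)
    (h : ∀ x, mat Q y *ᵥ ten e x = ten e x) : y ∈ Kr Q :=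
  hF.conj_kr.1 (hG.flip.mem_kr_of_fix (hG.flip_mem hy) he fun x => by rw [hF.conj_ten, h, hF.flip])

end GCtx

end CfsgLib.TWGap
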