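import Cfsg.Agent.TensorWreathOrth.Gap.Unipotent

/-!
# Singular slices for factors of dimension four
-/

set_option autoImplicit false
set_option linter.unusedSectionVars false

namespace CfsgLib.TWGap

open Matrix Module CfsgLib.Spinor CfsgLib.OrthMax CfsgLib.TensorOrth
open CfsgLib.TensorMax (Idx ten ten_add_left ten_add_right ten_smul_left ten_smul_right ten_eq_zero
  ten_inj_left ten_inj_right)
open CfsgLib.TensorUnitary (ten_induction)

variable {F : Type*} [Field F] [Fintype F] {k : ℕ} {Q : QuadraticForm F (Idx k k → F)}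
  {B₁ B₂ : LinearMap.BilinForm F (Fin k → F)} {J : Isom Q} {M : Subgroup (Isom Q)}

namespace Fl

variable (hF : Fl Q B₁ B₂ J)
include hF

/-- A regular vector orthogonal to two vectors. -/
theorem exists_aniso_perp (hpl : NoPlane B₂) {γ : Fin k → F} (hγ0 : γ ≠ 0) (hγ : B₂ γ γ = 0)
    {W : Submodule F (Fin k → F)} (hW : ∀ x ∈ W, B₂ x γ = 0) (h2 : 2 ≤ finrank F W) :
    ∃ e ∈ W, B₂ e e ≠ 0 := by
  by_contra! hall
  have hle : W ≤ Submodule.span F {γ} := fun x hx => by
    obtain ⟨s, hs⟩ := hpl γ x hγ0 hγ (hall x hx) (by rw [hF.aset.symm₂]; exact hW x hx)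
    exact Submodule.mem_span_singleton.2 ⟨s, hs⟩
  have := Submodule.finrank_mono hle
  rw [finrank_span_singleton hγ0] at this
  omega

/-- An element preserving an anisotropic left slice commutes with its reflection. -/
theorem L_comm_of_slice {g : Isom Q} {e : Fin k → F} (he : B₂ e e ≠ 0)
    (h : ∀ y, ∃ y', mat Q g *ᵥ ten e y = ten e y') : g * hF.L e = hF.L e * g := by
  set g' := J * g * J with hg'
  have h' : ∀ x, ∃ x', mat Q g' *ᵥ ten x e = ten x' e := fun x => by
    obtain ⟨x', hx'⟩ := h x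
    exact ⟨x', by rw [hg', mul_vec, mul_vec, hF.flip, hx', hF.flip]⟩
  choose f hf using h'
  clear_value g'
  suffices hc : g' * hF.aset.R e = hF.aset.R e * g' by
    have e1 : g = J * g' * J := by
      rw [hg', show J * (J * g * J) * J = (J * J) * g * (J * J) by group, hF.J_sq, one_mul, mul_one]
    rw [e1, hF.L_eq, show J * g' * J * (J * hF.aset.R e * J) = J * g' * (J * J) * hF.aset.R e * J by group,
      show J * hF.aset.R e * J * (J * g' * J) = J * hF.aset.R e * (J * J) * g' * J by group, hF.J_sq, mul_one,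
      mul_one, mul_assoc J g', hc]
    group
  -- `R e` is `-1` on the slice and `1` on its orthogonal
  refine hF.ext fun x y => ?_
  have hR : ∀ v, mat Q (hF.aset.R e) *ᵥ v = v - ten ((2 / B₂ e e) • evB B₂ e v) e := fun v => by
    induction v using ten_induction with
    | hadd v w hv hw =>
      rw [mulVec_add, hv, hw, map_add, smul_add, ten_add_left]; abel
    | h0 => simp [ten_eq_zero.2]
    | h x y =>
      rw [CfsgLib.TensorSlice.ASet.R, hF.aset.kR_ten, hF.aset.rR_apply he, CfsgLib.TensorSlice.ten_sub_right,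
        evB_ten, smul_smul, ten_smul_left, ← ten_smul_right]
      congr 3
      ring
  have hfsurj : Function.Surjective f := by
    have he0 : e ≠ 0 := fun h0 => he (by simp [h0])
    let fL : (Fin k → F) →ₗ[F] (Fin k → F) :=
      { toFun := f
        map_add' := fun a b => ten_inj_left he0 (by rw [← hf, ten_add_left, mulVec_add, hf, hf, ← ten_add_left])
        map_smul' := fun r a => ten_inj_left he0 (by
          rw [← hf, ten_smul_left, mulVec_smul, hf, RingHom.id_apply, ← ten_smul_left]) }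
    exact LinearMap.surjective_of_injective (f := fL) fun a b hab => ten_inj_left he0 (mulVec_injective g' (by
      show mat Q g' *ᵥ _ = mat Q g' *ᵥ _
      rw [hf, hf, show f a = f b from hab]))
  have hev : ∀ x, B₂ e e • f (evB B₂ e x) = B₂ e e • evB B₂ e (mat Q g' *ᵥ x) := fun v => by
    congr 1
    refine sub_eq_zero.1 (hF.aset.tset.f₁.sep fun x' => ?_)
    obtain ⟨a, rfl⟩ := hfsurj x'
    rw [map_sub, LinearMap.sub_apply, ← hF.aset.tset.polar_ten (mat Q g' *ᵥ v), ← hf, polar_mulVec,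
      hF.aset.tset.polar_ten]
    have h1 := polar_mulVec Q g' (ten (evB B₂ e v) e) (ten a e)
    rw [hf, hf, hF.aset.tset.polar, hF.aset.tset.polar] at h1
    rw [mul_right_cancel₀ he h1, sub_self]
  rw [mul_vec, mul_vec, hR, mulVec_sub, hf, hR]
  congr 2
  have e2 : f ((2 / B₂ e e) • evB B₂ e (ten x y)) = (2 / B₂ e e) • f (evB B₂ e (ten x y)) :=
    ten_inj_left (fun h0 : e = 0 => he (by simp [h0])) (by rw [← hf, ten_smul_left, mulVec_smul, hf, ten_smul_left])
  rw [e2, smul_right_injective _ he (hev (ten x y))]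

/-- **An element outside `Kr` maps no singular slice to a singular slice.** -/
theorem sliceR_four (hk : k = 4) (hpl : NoPlane B₂) (hmem : ∀ g ∈ Cfsg.Omega F ⇑Q, g ∈ Kr Q → g ∈ M)
    (hout : ∀ y ∈ M, ∀ e, B₂ e e ≠ 0 → hF.L e * y * hF.L e ∈ M → y ∈ hF.Nr) {y : Isom Q} (hy : y ∈ M)
    {c c' : Fin k → F} (hc0 : c ≠ 0) (hc : B₂ c c = 0) (hc'0 : c' ≠ 0) (hc' : B₂ c' c' = 0)
    (hmap : ∀ x, ∃ x', mat Q y *ᵥ ten x c = ten x' c') : y ∈ Kr Q := by
  classical
  have hs := hF.aset
  have hS := hs.tset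
  have h₁ := hS.f₁
  have h₂ := hS.f₂
  have h2 := hs.two
  have hk0 := hF.kpos
  obtain ⟨κ, hκ, hκv⟩ := hF.prop
  have hpl₁ : NoPlane B₁ := fun x y hx hxx hyy hxy =>
    hpl x y hx ((hF.zero_iff x x).1 hxx) ((hF.zero_iff y y).1 hyy) ((hF.zero_iff x y).1 hxy)
  have hX : Ctx Q B₁ B₂ 1 M :=
    ⟨hS, by omega, by omega, Or.inr ⟨by omega, Or.inr (by omega), h2⟩,
      Or.inr (Or.inr (Or.inr ⟨by omega, hpl₁⟩)), hmem⟩
  -- elements preserving a left slice stay in `Kr`
  have hfin : ∀ g ∈ M, ∀ e, B₂ e e ≠ 0 → (∀ u, ∃ u', mat Q g *ᵥ ten e u = ten e u') → g ∈ Kr Q := by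
    intro g hg e he h
    have hN := hout g hg e he (by
      rw [mul_assoc, hF.L_comm_of_slice he h, ← mul_assoc, hF.L_sq, one_mul]; exact hg)
    have hN' : J * g * J ∈ hF.Nr := hF.Nr.mul_mem (hF.Nr.mul_mem hF.J_mem hN) hF.J_mem
    have hK := hF.mem_kr_of_slice hN' (c := e) (c' := e) (fun h0 => he (by simp [h0])) fun x => by
      obtain ⟨u', hu'⟩ := h x
      exact ⟨u', by rw [mul_vec, mul_vec, hF.flip, hu', hF.flip]⟩
    have := hF.flip_conj_mem hK
    rwa [show J * (J * g * J) * J = (J * J) * g * (J * J) by group, hF.J_sq, one_mul, mul_one] at this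
  by_contra hyK
  obtain ⟨d, hd, hdc⟩ := h₂.exists_partner hc0 hc
  obtain ⟨T, hT, s, hs0, hTc⟩ := h₂.exists_move (Or.inl (by omega)) hc'0 hc0 hc' hc
  obtain ⟨et, het, hev⟩ := hX.right hT
  have heK : et ∈ Kr Q := hS.mem_Kr_of_ten hk0 hk0 LinearMap.id
    (Matrix.mulVecLin (T : Matrix (Fin k) (Fin k) F)) fun x y => by rw [hev]; rfl
  have hcd : B₂ c d = 1 := by rw [h₂.symm, hdc, mul_one]
  have hg₁ : ∀ x, ∃ x', mat Q (et * y) *ᵥ ten x c = ten x' c := fun x => by
    obtain ⟨x', hx'⟩ := hmap x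
    exact ⟨s • x', by rw [mul_vec, hx', hev, hTc, ten_smul_right, ← ten_smul_left]⟩
  choose f₀ hf₀ using hg₁
  let fL : (Fin k → F) →ₗ[F] (Fin k → F) :=
    { toFun := f₀
      map_add' := fun a b => ten_inj_left hc0 (by rw [← hf₀, ten_add_left, mulVec_add, hf₀, hf₀, ← ten_add_left])
      map_smul' := fun r a => ten_inj_left hc0 (by
        rw [← hf₀, ten_smul_left, mulVec_smul, hf₀, RingHom.id_apply, ← ten_smul_left]) }
  have hfL : Function.Injective fL := fun a b hab => ten_inj_left hc0 (mulVec_injective (et * y) (by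
    show mat Q (et * y) *ᵥ _ = mat Q (et * y) *ᵥ _
    rw [hf₀, hf₀, show f₀ a = f₀ b from hab]))
  obtain ⟨r, hr, hrR, hrK⟩ := hX.exists_rad_outside (M.mul_mem het hy)
    (fun h => hyK (by simpa using (Kr Q).mul_mem ((Kr Q).inv_mem heK) h)) hc0 hc
    (S := LinearEquiv.ofInjectiveEndo fL hfL) (fun x => by rw [hf₀]; rfl)
  by_cases hcen : M ⊓ Cen Q B₂ c ≤ Kr Q
  swap
  · -- an Eichler element
    obtain ⟨γ, v, hv⟩ := hX.seed_of_cen hc0 hc hcen
    have hγ : B₂ γ γ = 0 := (hF.zero_iff _ _).1 hv.c_iso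
    have hvγ : B₁ v γ = 0 := hv.orth
    obtain ⟨e, ⟨heγ, hev'⟩, he⟩ := hF.exists_aniso_perp hpl hv.c_ne hγ
      (W := cperp B₂ γ ⊓ cperp B₂ v) (fun x hx => hx.1) (by
        have h1 := h₂.finrank_cperp hv.c_ne
        have h3 := h₂.finrank_le_inf (cperp B₂ γ) v
        omega)
    have hu : Q (ten γ c) = 0 := hS.quad γ c (Or.inr hc)
    have huw : QuadraticMap.polar (⇑Q) (ten γ c) (ten v c) = 0 := by rw [hS.polar, hc, mul_zero]
    set g := CfsgLib.Forms.eichIso Q (ten γ c) (ten v c) hu huw with hgdef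
    have hgM : g ∈ M := hv.mem g (CfsgLib.Forms.mat_eichIso _ _ _ _)
    have hgv : ∀ x u, mat Q g *ᵥ ten x u = ten x u + (B₁ γ x * B₂ c u) • ten v c - (B₁ v x * B₂ c u) • ten γ c :=
      fun x u => by
        rw [hgdef, CfsgLib.Forms.mat_eichIso, CfsgLib.Forms.eich_mulVec, hS.polar, hS.polar,
          hS.quad v c (Or.inr hc), zero_mul, zero_smul, sub_zero, add_sub_assoc]
    have hfix : ∀ u, mat Q g *ᵥ ten e u = ten e u := fun u => by
      have e1 : B₁ γ e = 0 := (hF.zero_iff _ _).2 (by rw [hs.symm₂]; exact heγ)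
      have e2 : B₁ v e = 0 := (hF.zero_iff _ _).2 (by rw [hs.symm₂]; exact hev')
      rw [hgv, e1, e2, zero_mul, zero_smul, zero_smul, add_zero, sub_zero]
    obtain ⟨δ, hδ, hδγ⟩ := h₁.exists_partner hv.c_ne hv.c_iso
    have hγδ : B₁ γ δ = 1 := by rw [h₁.symm, hδγ, mul_one]
    obtain ⟨A, B, μ, -, hAB, -, -⟩ := hF.kr_sim (hfin g hgM e he fun u => ⟨u, hfix u⟩)
    have he0 : e ≠ 0 := fun h0 => he (by simp [h0])
    obtain ⟨r₀, hr₀⟩ : ∃ r₀ : F, ∀ u, (B : Matrix (Fin k) (Fin k) F) *ᵥ u = r₀ • u := by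
      obtain ⟨y₀, hy₀⟩ := h₂.exists_one he0
      have hne : ten e y₀ ≠ 0 := fun h0 => by
        rcases ten_eq_zero.1 h0 with h | h
        · exact he0 h
        · rw [h, map_zero, LinearMap.zero_apply] at hy₀; exact zero_ne_one hy₀
      obtain ⟨i, hi⟩ := Function.ne_iff.1 he0
      refine ⟨e i / ((A : Matrix (Fin k) (Fin k) F) *ᵥ e) i, fun u => funext fun j => ?_⟩
      have hAi : ((A : Matrix (Fin k) (Fin k) F) *ᵥ e) i ≠ 0 := fun h0 => by
        obtain ⟨j', hj'⟩ := Function.ne_iff.1 (show y₀ ≠ 0 from fun h => hne (ten_eq_zero.2 (Or.inr h)))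
        have := congrFun ((hAB e y₀).symm.trans (hfix y₀)) (i, j')
        simp only [ten, h0, zero_mul] at this
        exact mul_ne_zero hi hj' this.symm
      have := congrFun ((hAB e u).symm.trans (hfix u)) (i, j)
      simp only [ten] at this
      rw [Pi.smul_apply, smul_eq_mul, div_mul_eq_mul_div, eq_div_iff hAi, ← this, mul_comm]
    have h3 := congrArg (evB B₂ d) ((hAB δ d).symm.trans (hgv δ d))
    rw [hγδ, hcd, one_mul, one_smul, map_sub, map_add, map_smul, evB_ten, evB_ten, evB_ten, evB_ten, hr₀,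
      map_smul, LinearMap.smul_apply, hd, smul_zero, hcd] at h3
    simp only [zero_smul, one_smul, zero_add, mul_one] at h3
    exact hv.indep (B₁ v δ) (sub_eq_zero.1 h3.symm).symm
  -- a translation commuting with the roots at a vector
  obtain ⟨γ, hγ0, hγ⟩ := hX.exists_iso_left
  obtain ⟨δ, hδ, hδγ⟩ := h₁.exists_partner hγ0 hγ
  have hγ₂ : B₂ γ γ = 0 := (hF.zero_iff _ _).1 hγ
  set p := ringChar F
  have : Fact p.Prime := ⟨CharP.char_is_prime F p⟩
  set U := pairGrp M (rootsAt B₁ 1 h₁ hγ γ) (⊥ : Subgroup (GL (Fin k) F)) with hUdef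
  have hU : IsPGroup p U := pairGrp_isPGroup (rootsAt_isPGroup h₁ hk0 hγ γ) IsPGroup.of_bot
  have hinv : ∀ g ∈ U, ∀ r ∈ M ⊓ Rad Q B₂ c, g * r * g⁻¹ ∈ M ⊓ Rad Q B₂ c := by
    rintro g ⟨hg, E, -, E', hE', hgv⟩ r ⟨hr, hrc⟩
    refine ⟨M.mul_mem (M.mul_mem hg hr) (M.inv_mem hg), hS.conj_mem_rad g (glEquiv E) (fun x => ?_) hrc⟩
    rw [hgv, (Subgroup.mem_bot.1 hE' : E' = 1), Units.val_one, one_mulVec, glEquiv_apply]
  obtain ⟨m, ⟨hmM, hmR⟩, hmK, hfix⟩ := hS.exists_fixed hk0 hk0 hc0 hc hdc inf_le_right hU hinv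
    (fun hle => hrK (hle ⟨hr, hrR⟩))
  let X : (Fin k → F) → (Fin k → F) →ₗ[F] (Fin k → F) := fun u => (xPart B₂ 1 d m).comp (tenB.flip u)
  have hmv : ∀ u, B₂ u c = 0 → ∀ x, mat Q m *ᵥ ten x u = ten x u + ten (X u x) c := fun u hu x =>
    hS.rad_mulVec hdc hmR (by simp [hu])
  let W : (Fin k → F) →ₗ[F] (Idx k k → F) :=
    ((Matrix.mulVecLin (mat Q m)) - LinearMap.id).comp (tenB.flip d)
  have hmd : ∀ x, mat Q m *ᵥ ten x d = ten x d + W x := fun x => by simp [W]
  have hWc : ∀ x, evB B₂ c (W x) = 0 := fun x => by simp [W, hS.evB_fix hmR.1]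
  -- the adjoint of the translation
  have hadj : ∀ u, B₂ u c = 0 → ∀ x x', B₁ (evB B₂ u (W x)) x' = -B₁ x (X u x') := fun u hu x x' => by
    have h := polar_mulVec Q m (ten x d) (ten x' u)
    rw [hmd, hmv u hu, QuadraticMap.polar_add_left, QuadraticMap.polar_add_right, QuadraticMap.polar_add_right,
      hS.polar_ten, hS.polar, hS.polar_ten, hS.polar_ten, hWc, map_zero, LinearMap.zero_apply, add_zero, hdc, mul_one] at h
    linear_combination h
  -- the translation is self-adjoint
  have hsa : ∀ u, B₂ u c = 0 → ∀ x x', B₁ (X u x) x' = B₁ x (X u x') := by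
    intro u hu
    obtain ⟨q, hq, -, hqL, l, hqv⟩ := hX.exists_scalar_line hc hu
    set n := m * q * m⁻¹ * q⁻¹ with hn
    have hnC : n ∈ Cen Q B₂ c := hS.commutator_mem_cen hmR hqL.mem_rad
    have hnK : n ∈ Kr Q := hcen ⟨M.mul_mem (M.mul_mem (M.mul_mem hmM hq) (M.inv_mem hmM)) (M.inv_mem hq), hnC⟩
    obtain ⟨T', -, -, hT'⟩ := hS.rad_kr hk0 hc0 (cen_le_rad hc hnC) hnK
    obtain ⟨μ, -, hμ⟩ := split_ten hk0 (A := fun x : Fin k → F => x) (y := T' d - d)
      (D := fun x => X u x + evB B₂ u (W x))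
      ⟨Pi.single ⟨0, hk0⟩ 1, by simp⟩ hc0 fun x => by
      have hqd : mat Q q *ᵥ ten x d = ten x d + ten x u + (l - B₂ d u) • ten x c := by
        rw [hqv, esie_apply, hdc, ← ten_smul_right, ← ten_add_right, ← ten_add_right]
        congr 1
        module
      have hn1 : mat Q n *ᵥ (mat Q q *ᵥ (mat Q m *ᵥ ten x d)) = mat Q m *ᵥ (mat Q q *ᵥ ten x d) := by
        rw [← Fl.mul_vec, ← Fl.mul_vec, ← Fl.mul_vec, hn]
        congr 2
        group
      rw [hmd, mulVec_add (mat Q q), hqd, hqL.2 _ (hWc x), mulVec_add, mulVec_add, mulVec_add, mulVec_add,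
        mulVec_smul, hnC (W x) (hWc x), hnC (ten x u) (by simp [hu]), (cen_le_rad hc hnC).1,
        (cen_le_rad hc hnC).1, hT', mulVec_add, mulVec_add, mulVec_smul, hmd, hmv u hu, hmR.1] at hn1
      rw [CfsgLib.TensorSlice.ten_sub_right, ten_add_left]
      simp only [LinearMap.neg_apply, LinearMap.smul_apply, LinearMap.id_apply, ten_neg_left', one_smul] at hn1
      linear_combination (norm := module) hn1
    have key : ∀ x x', B₁ (X u x) x' - B₁ x (X u x') = μ * B₁ x x' := fun x x' => by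
      have h := congrArg (fun w => B₁ w x') (hμ x)
      simp only [map_add, map_smul, LinearMap.add_apply, LinearMap.smul_apply, smul_eq_mul, hadj u hu] at h
      linear_combination h
    obtain ⟨e, -, -, hee⟩ := h₁.exists_nonsingular_pair h2 rfl hγ hδ hδγ (by omega)
    have h0 := key e e
    rw [h₁.symm e (X u e), one_mul, sub_self, eq_comm, mul_eq_zero] at h0
    intro x x'
    have := key x x'
    rw [h0.resolve_right hee, zero_mul, sub_eq_zero] at this
    exact this
  -- the shape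
  have hshape : ∀ u, B₂ u c = 0 → ∃ l σ : F, ∀ x, X u x = l • x + (σ * B₁ x γ) • γ := by
    intro u hu
    have hfm : FixMod B₁ 1 γ (X u) := by
      intro z l hz hl
      obtain ⟨g, hg, hgv⟩ := hX.pair_left hγ hz hl (⊥ : Subgroup (GL (Fin k) F))
      obtain ⟨T', ν, hTc', -, hν, hrel⟩ := hfix g hg
      obtain ⟨μ, -, hμ⟩ := split_ten hk0 (A := fun x => esie B₁ 1 γ z l x)
        (D := fun x => esie B₁ 1 γ z l (X u x) - X u (esie B₁ 1 γ z l x)) (y := T' u - u)
        ⟨δ, fun he0 => by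
          have := h₁.esie_isom hγ hz hl δ γ
          rw [he0, map_zero, LinearMap.zero_apply, hδγ] at this
          exact zero_ne_one this⟩ hc0 fun x => by
          have h1 := hrel (ten x u)
          rw [hmv u hu, mulVec_add, hgv, hgv, hmv u hu, mulVec_add, hν, hν, hTc'] at h1
          rw [CfsgLib.TensorSlice.ten_sub_right, ten_sub_left']
          linear_combination (norm := module) -h1
      exact ⟨μ, hμ⟩
    obtain ⟨l, v, σ, hvγ, hvδ, hXv⟩ := h₁.shape hX.shapeOK hγ hδ hδγ hfm
    refine ⟨l, σ, fun x => ?_⟩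
    have hv0 : v = 0 := h₁.sep fun w => by
      have h := hsa u hu δ w
      rw [hXv, hXv] at h
      simp only [map_add, map_sub, map_smul, LinearMap.add_apply, LinearMap.sub_apply, LinearMap.smul_apply,
        smul_eq_mul, hδγ, h₁.symm δ v, hvδ, h₁.symm δ γ, h₁.symm γ w, mul_one, one_mul] at h
      have : (2 : F) * B₁ v w = 0 := by
        rw [h₁.symm v w, one_mul] at h ⊢
        linear_combination h
      exact (mul_eq_zero.1 this).resolve_left h2
    rw [hXv, hv0]
    simp
  choose lf σf hXf using hshape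
  obtain ⟨e₁, -, -, he₁⟩ := h₁.exists_nonsingular_pair h2 rfl hγ hδ hδγ (by omega)
  -- the roots at `γ` commute with the translation
  have hroot : ∀ z l, B₁ z γ = 0 → l * (1 + 1) + B₁ z z = 0 → ∀ x,
      evB B₂ d (W (esie B₁ 1 γ z l x)) = esie B₁ 1 γ z l (evB B₂ d (W x)) := by
    intro z l hz hl x
    obtain ⟨g, hg, hgv⟩ := hX.pair_left hγ hz hl (⊥ : Subgroup (GL (Fin k) F))
    obtain ⟨T', ν, hTc', hTi, hν, hrel⟩ := hfix g hg
    set E := esie B₁ 1 γ z l with hE
    have hEi : ∀ x x', B₁ (E x) (E x') = B₁ x x' := h₁.esie_isom hγ hz hl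
    have hEγ : E γ = γ := by
      rw [hE, esie_apply, hγ, h₁.orth_comm hz]
      simp
    have hTu : ∀ u, B₂ u c = 0 → T' u = u := fun u hu => by
      have h1 := hrel (ten δ u)
      rw [hmv u hu, mulVec_add, hgv, hgv, hmv u hu, mulVec_add, hν, hν, hTc', hXf u hu δ, hXf u hu (E δ)] at h1
      have hEδ : B₁ (E δ) γ = B₁ δ γ := by
        calc B₁ (E δ) γ = B₁ (E δ) (E γ) := by rw [hEγ]
          _ = B₁ δ γ := hEi δ γ
      rw [map_add, map_smul, map_smul, hEγ, hEδ] at h1
      have hEδ0 : E δ ≠ 0 := fun h0 => by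
        rw [h0, map_zero, LinearMap.zero_apply, hδγ] at hEδ
        exact zero_ne_one hEδ
      exact (ten_inj_right hEδ0 (add_right_cancel h1)).symm
    have hTd : T' d = d := by
      have e0 : ∀ u, B₂ u c = 0 → B₂ (T' d - d) u = 0 := fun u hu => by
        rw [map_sub, LinearMap.sub_apply]
        conv_lhs => arg 1; rw [← hTu u hu]
        rw [hTi, sub_self]
      obtain ⟨a, ha⟩ := h₂.eq_smul_of_orth e0
      have e1 : T' d = d + a • c := by rw [ha]; abel
      have h3 := hTi d d
      rw [e1] at h3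
      simp only [map_add, map_smul, LinearMap.add_apply, LinearMap.smul_apply, smul_eq_mul, hd, hc, hcd, hdc] at h3
      have a0 : a = 0 := (mul_eq_zero.1 (show (2 : F) * a = 0 by linear_combination h3)).resolve_left h2
      rw [e1, a0, zero_smul, add_zero]
    have hT1 : ∀ u, T' u = u := fun u => by
      have : B₂ (u - B₂ u c • d) c = 0 := by simp [hdc]
      conv_lhs => rw [show u = (u - B₂ u c • d) + B₂ u c • d by abel]
      rw [map_add, map_smul, hTu _ this, hTd, sub_add_cancel]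
    have hν1 : ∀ v, mat Q ν *ᵥ v = v := fun v => by
      induction v using ten_induction with
      | hadd v w hv hw => rw [mulVec_add, hv, hw]
      | h0 => rw [mulVec_zero]
      | h x u => rw [hν, hT1]
    have hEv : ∀ v, evB B₂ d (mat Q g *ᵥ v) = E (evB B₂ d v) := fun v => by
      induction v using ten_induction with
      | hadd v w hv hw => rw [mulVec_add, map_add, hv, hw, map_add, map_add]
      | h0 => simp
      | h x u => rw [hgv, evB_ten, evB_ten, map_smul]
    have h1 := congrArg (evB B₂ d) (hrel (ten x d))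
    rw [hν1, hmd, mulVec_add, hgv, hmd, map_add, map_add, evB_ten, hd, zero_smul, zero_add, zero_add, hEv] at h1
    exact h1.symm
  set P : (Fin k → F) →ₗ[F] (Fin k → F) := (evB B₂ d).comp W with hP
  have hroot' : ∀ z, B₁ z γ = 0 → ∀ x, P (esie B₁ 1 γ z (-B₁ z z / 2) x) = esie B₁ 1 γ z (-B₁ z z / 2) (P x) :=
    fun z hz x => hroot z _ hz (by field_simp; ring) x
  obtain ⟨z₁, hz₁, hz₁0⟩ : ∃ z, B₁ z γ = 0 ∧ B₁ z z ≠ 0 := by
    obtain ⟨e, he, -, hee⟩ := h₁.exists_nonsingular_pair h2 rfl hγ hδ hδγ (by omega)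
    exact ⟨e, he, hee⟩
  have hzγ : ∀ z, B₁ z γ = 0 → B₁ γ z = 0 := fun z => h₁.orth_comm
  have hPγ : ∃ a : F, P γ = a • γ := by
    have hPg : B₁ (P γ) γ = 0 := by
      have h := hroot' z₁ hz₁ γ
      rw [show esie B₁ 1 γ z₁ (-B₁ z₁ z₁ / 2) γ = γ by rw [esie_apply, hγ, hzγ _ hz₁]; simp] at h
      have h' := congrArg (fun w => B₁ w z₁) h
      simp only [esie_apply, map_add, map_sub, map_smul, LinearMap.add_apply, LinearMap.sub_apply,
        LinearMap.smul_apply, smul_eq_mul, hzγ _ hz₁] at h'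
      exact (mul_eq_zero.1 (show B₁ (P γ) γ * B₁ z₁ z₁ = 0 by linear_combination -h')).resolve_right hz₁0
    have hall : ∀ z, B₁ z γ = 0 → B₁ (P γ) z = 0 := fun z hz => by
      have h := hroot' z hz γ
      rw [show esie B₁ 1 γ z (-B₁ z z / 2) γ = γ by rw [esie_apply, hγ, hzγ _ hz]; simp, esie_apply, hPg,
        zero_smul, mul_zero, zero_smul, add_zero, add_zero, one_mul, eq_comm, sub_eq_self, smul_eq_zero] at h
      exact h.resolve_right hγ0
    obtain ⟨a, ha⟩ := h₁.eq_smul_of_orth hall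
    exact ⟨a, ha.symm⟩
  obtain ⟨a, ha⟩ := hPγ
  have hPe : ∀ e, B₁ e γ = 0 → ∃ t : F, P e = a • e + t • γ := by
    intro e he
    have hWu : ∀ u, B₂ u c = 0 → ∀ x, B₁ x γ = 0 → B₁ (evB B₂ u (W x)) γ = 0 := fun u hu x hx => by
      rw [hadj u hu, hXf u hu]
      simp [hx, hγ]
    have hPeγ : B₁ (P e) γ = 0 := by
      have h := polar_mulVec Q m (ten e d) (ten γ d)
      rw [hmd, hmd, QuadraticMap.polar_add_left, QuadraticMap.polar_add_right, QuadraticMap.polar_add_right,
        hS.polar_ten (W e) γ d, QuadraticMap.polar_comm _ (ten e d) (W γ), hS.polar_ten (W γ) e d,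
        hS.polar, hd, mul_zero, zero_add] at h
      have hWW : QuadraticMap.polar (⇑Q) (W e) (W γ) = 0 := by
        have hdec : ∃ w, B₂ w c = 0 ∧ W γ = ten γ w := by
          let φ : (Fin k → F) →ₗ[F] F :=
            { toFun := fun u => B₁ (evB B₂ u (W γ)) δ
              map_add' := fun u u' => by rw [evB_add_right, map_add, LinearMap.add_apply]
              map_smul' := fun r u => by
                rw [evB_smul_right, map_smul, LinearMap.smul_apply, RingHom.id_apply] }
          set w := (B₂.toDual h₂.nondeg).symm φ with hw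
          have hwv : ∀ u, B₂ w u = φ u := fun u => LinearMap.BilinForm.apply_toDual_symm_apply φ u
          have hev : ∀ u, evB B₂ u (W γ) = φ u • γ := by
            have hperp : ∀ u, B₂ u c = 0 → ∃ r : F, evB B₂ u (W γ) = r • γ := fun u hu => by
              obtain ⟨r, hr⟩ := h₁.eq_smul_of_orth (c := γ) (z := evB B₂ u (W γ)) (fun x hx => by
                rw [hadj u hu, hXf u hu]
                simp [hzγ _ hx, hx, hγ])
              exact ⟨r, hr.symm⟩
            intro u
            obtain ⟨r, hr⟩ := hperp (u - B₂ u c • d) (by simp [hdc])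
            have e1 : evB B₂ u (W γ) = r • γ + (B₂ u c * a) • γ := by
              conv_lhs => rw [show u = (u - B₂ u c • d) + B₂ u c • d by abel]
              rw [evB_add_right, evB_smul_right, hr, show evB B₂ d (W γ) = a • γ from ha, smul_smul]
            have e2 : φ u = r + B₂ u c * a := by
              show B₁ (evB B₂ u (W γ)) δ = _
              rw [e1]
              simp [h₁.symm γ δ, hδγ]
            rw [e1, e2, add_smul]
          refine ⟨w, ?_, ?_⟩
          · rw [hwv]; show B₁ (evB B₂ c (W γ)) δ = 0; rw [hWc]; simp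
          · refine sub_eq_zero.1 (hS.nondeg.1 _ fun v => ?_)
            induction v using ten_induction with
            | hadd p q hp hq => rw [map_add, hp, hq, add_zero]
            | h0 => rw [map_zero]
            | h x u =>
              rw [QuadraticMap.polarBilin_apply_apply, hS.polar_ten, map_sub, hev, evB_ten, hwv, sub_self, map_zero,
                LinearMap.zero_apply]
        obtain ⟨w, hwc, hw⟩ := hdec
        rw [hw, hS.polar_ten, hWu w hwc e he]
      rw [hWW, add_zero, show evB B₂ d (W γ) = a • γ from ha, map_smul, LinearMap.smul_apply, hzγ _ he, smul_zero,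
        zero_add] at h
      exact h
    have hall : ∀ z, B₁ z γ = 0 → B₁ (P e - a • e) z = 0 := fun z hz => by
      have h := hroot' z hz e
      rw [esie_apply, he, zero_smul, add_zero, mul_zero, zero_smul, add_zero, one_mul, map_sub, map_smul, ha,
        esie_apply, hPeγ, zero_smul, add_zero, mul_zero, zero_smul, add_zero, one_mul, sub_right_inj, smul_smul] at h
      rw [map_sub, map_smul, LinearMap.sub_apply, LinearMap.smul_apply, smul_eq_mul,
        ← smul_left_injective F hγ0 h]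
      ring
    obtain ⟨t, ht⟩ := h₁.eq_smul_of_orth hall
    exact ⟨t, by rw [ht]; abel⟩
  -- a regular vector whose slice is preserved
  set S : Submodule F (Fin k → F) := cperp B₁ γ with hSdef
  set f : S →ₗ[F] F := (B₁.flip δ).comp ((P - a • LinearMap.id).comp S.subtype) with hf
  have hker : 2 ≤ finrank F ((LinearMap.ker f).map S.subtype) := by
    have h1 := LinearMap.finrank_range_add_finrank_ker f
    have h3 := (Submodule.finrank_le (LinearMap.range f)).trans_eq (Module.finrank_self F)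
    have h4 := h₁.finrank_cperp hγ0
    rw [← hSdef] at h4
    rw [Submodule.finrank_map_subtype_eq]
    omega
  obtain ⟨e, ⟨⟨e', he'γ⟩, he'f, rfl⟩, he⟩ := hF.exists_aniso_perp hpl hγ0 hγ₂
    (W := (LinearMap.ker f).map S.subtype) (fun x hx => by
      obtain ⟨⟨x', hx'⟩, -, rfl⟩ := hx
      exact (hF.zero_iff _ _).1 hx') hker
  have heγ : B₁ e' γ = 0 := he'γ
  have hPe' : P e' = a • e' := by
    obtain ⟨t, ht⟩ := hPe e' heγ
    have h : B₁ (P e' - a • e') δ = 0 := he'f
    rw [ht, add_sub_cancel_left, map_smul, LinearMap.smul_apply, h₁.symm, hδγ, one_mul, smul_eq_mul, mul_one] at h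
    rw [ht, h, zero_smul, add_zero]
  refine hmK (hfin m hmM e' he fun u => ?_)
  change B₂ e' e' ≠ 0 at he
  have hu' : B₂ (u - B₂ u c • d) c = 0 := by simp [hdc]
  have hXe : ∀ u (hu : B₂ u c = 0), X u e' = lf u hu • e' := fun u hu => by
    rw [hXf u hu, heγ, mul_zero, zero_smul, add_zero]
  obtain ⟨w, hw⟩ : ∃ w, W e' = ten e' w := by
    let φ : (Fin k → F) →ₗ[F] F :=
      { toFun := fun u => (B₁ e' e')⁻¹ * B₁ (evB B₂ u (W e')) e'
        map_add' := fun u u' => by rw [evB_add_right, map_add, LinearMap.add_apply, mul_add]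
        map_smul' := fun r u => by
          rw [evB_smul_right, map_smul, LinearMap.smul_apply, RingHom.id_apply, smul_eq_mul, smul_eq_mul]; ring }
    refine ⟨(B₂.toDual h₂.nondeg).symm φ, sub_eq_zero.1 (hS.nondeg.1 _ fun v => ?_)⟩
    induction v using ten_induction with
    | hadd p q hp hq => rw [map_add, hp, hq, add_zero]
    | h0 => rw [map_zero]
    | h x u =>
      rw [QuadraticMap.polarBilin_apply_apply, hS.polar_ten, map_sub, evB_ten,
        LinearMap.BilinForm.apply_toDual_symm_apply]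
      have hu1 : B₂ (u - B₂ u c • d) c = 0 := by simp [hdc]
      have e1 : evB B₂ u (W e') = (-lf _ hu1 + B₂ u c * a) • e' := by
        conv_lhs => rw [show u = (u - B₂ u c • d) + B₂ u c • d by abel]
        rw [evB_add_right, evB_smul_right, show evB B₂ d (W e') = a • e' from hPe', smul_smul, add_smul]
        congr 1
        refine sub_eq_zero.1 (h₁.sep fun x' => ?_)
        rw [map_sub, LinearMap.sub_apply, hadj _ hu1, hXf _ hu1, map_add, map_smul, map_smul, heγ, smul_eq_mul,
          smul_eq_mul, mul_zero, add_zero, map_smul, LinearMap.smul_apply, smul_eq_mul]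
        ring
      have hee : B₁ e' e' ≠ 0 := fun h0 => he ((hF.zero_iff _ _).1 h0)
      show B₁ (evB B₂ u (W e') - ((B₁ e' e')⁻¹ * B₁ (evB B₂ u (W e')) e') • e') x = 0
      rw [e1, map_smul, LinearMap.smul_apply, smul_eq_mul, mul_left_comm, inv_mul_cancel₀ hee, mul_one, sub_self,
        map_zero, LinearMap.zero_apply]
  refine ⟨(u - B₂ u c • d) + lf _ hu' • c + B₂ u c • (d + w), ?_⟩
  conv_lhs => rw [show u = (u - B₂ u c • d) + B₂ u c • d by abel, ten_add_right, ten_smul_right]
  rw [mulVec_add, mulVec_smul, hmv _ hu', hmd, hXe _ hu', hw, ten_add_right, ten_add_right, ten_smul_right,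
    ten_smul_right, ten_smul_left, ten_add_right]

end Fl

end CfsgLib.TWGap
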