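import Cfsg.Agent.TensorWreathOrth.Gap.Connect
import Cfsg.Agent.TensorWreathOrth.Gap.SliceFour
import Cfsg.Agent.TensorWreathOrth.Gap.EndSix
import Cfsg.Agent.TensorOrthSlice.Main
import Cfsg.Agent.TensorOrth.EndGame

/-!
# Overgroups satisfy the standing hypotheses
-/

set_option autoImplicit false
set_option linter.unusedSectionVars false

namespace CfsgLib.TWGap

open Matrix Module CfsgLib.Spinor CfsgLib.OrthMax CfsgLib.TensorOrth
open CfsgLib.TensorMax (Idx ten)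

variable {F : Type*} [Field F] [Fintype F] {k : ℕ} {Q : QuadraticForm F (Idx k k → F)}
  {B₁ B₂ : LinearMap.BilinForm F (Fin k → F)} {J : Isom Q} {M : Subgroup (Isom Q)}

namespace Fl

variable (hF : Fl Q B₁ B₂ J)
include hF

/-- Singular right slices, given the outer left reflections. -/
theorem sliceR_of_outer (hpl : k = 4 → NoPlane B₂) (hne : ¬ Cfsg.Omega F ⇑Q ≤ M)
    (hmem : ∀ g ∈ Cfsg.Omega F ⇑Q, g ∈ Kr Q → g ∈ M)
    (hout : ∀ y ∈ M, ∀ e, B₂ e e ≠ 0 → hF.L e * y * hF.L e ∈ M → y ∈ hF.Nr) {y : Isom Q} (hy : y ∈ M)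
    {c c' : Fin k → F} (hc0 : c ≠ 0) (hc : B₂ c c = 0) (hc'0 : c' ≠ 0) (hc' : B₂ c' c' = 0)
    (hmap : ∀ x, ∃ x', mat Q y *ᵥ ten x c = ten x' c') : y ∈ Kr Q := by
  by_cases h4 : k = 4
  · exact hF.sliceR_four h4 (hpl h4) hmem hout hy hc0 hc hc'0 hc' hmap
  · have h5 : 5 ≤ k := by have := hF.four; omega
    by_contra hyK
    exact hne ((hF.aset.ctx_of_wide (by omega) h5 (fun _ => Or.inl h5) hmem).omega_le_of_slice h5 (Or.inl h5) hy
      hyK hc0 hc hc'0 hc' hmap)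

/-- A proper overgroup satisfies the standing hypotheses. -/
theorem gctx_of_proper (hpl : k = 4 → NoPlane B₂) (hne : ¬ Cfsg.Omega F ⇑Q ≤ M)
    (hmem : ∀ g ∈ Cfsg.Omega F ⇑Q, g ∈ hF.Nr → g ∈ M) (hle : M ≤ Cfsg.Omega F ⇑Q) : GCtx hF M := by
  have houtR : ∀ y ∈ M, ∀ e, B₂ e e ≠ 0 → hF.aset.R e * y * hF.aset.R e ∈ M → y ∈ hF.Nr := fun y hy e he h =>
    hF.nr_of_outer hpl hne hmem hle (hF.aset.R_sq e) (hF.aset.R_mem e) (fun f hf => hF.RR_omega he hf)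
      (fun f hf => by rw [CfsgLib.TensorSlice.ASet.R, Fl.L, ← hF.LR_comm]; exact hF.LR_omega hf he) hy h
  have houtL : ∀ y ∈ M, ∀ e, B₂ e e ≠ 0 → hF.L e * y * hF.L e ∈ M → y ∈ hF.Nr := fun y hy e he h =>
    hF.nr_of_outer hpl hne hmem hle (hF.L_sq e) (hF.L_mem e)
      (fun f hf => hF.LR_omega he hf) (fun f hf => hF.LL_omega he hf) hy h
  have hkM : ∀ g ∈ Cfsg.Omega F ⇑Q, g ∈ Kr Q → g ∈ M := fun g hg hgK => hmem g hg (Or.inl hgK)
  refine hF.gctx hpl hne hmem hle (fun y hy c c' hc0 hc hc'0 hc' h =>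
    hF.sliceR_of_outer hpl hne hkM houtL hy hc0 hc hc'0 hc' h) ?_
  intro y hy c c' hc0 hc hc'0 hc' h
  set M' := M.comap (MulAut.conj J).toMonoidHom with hM'
  have hm : ∀ g, g ∈ M' ↔ J * g * J ∈ M := fun g => by rw [← hF.conj_J]; rfl
  refine hF.conj_kr.1 (hF.sliceR_of_outer (M := M') hpl (fun hΩ => hne fun g hg => ?_) (fun g hg hgK => ?_)
    (fun z hz e he hzz => ?_) ((hm _).2 (by rw [hF.conj_conj]; exact hy)) hc0 hc hc'0 hc' fun x => ?_)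
  · have := (hm _).1 (hΩ (show J * g * J ∈ _ by rw [← hF.conj_J]; exact omega_conj hg J))
    rwa [hF.conj_conj] at this
  · exact (hm g).2 (hkM _ (by rw [← hF.conj_J]; exact omega_conj hg J) (hF.conj_kr.2 hgK))
  · rw [hm] at hz hzz
    refine hF.conj_nr.1 (houtR _ hz e he ?_)
    rwa [← hF.conj_mul, ← hF.conj_mul, hF.conj_L] at hzz
  · obtain ⟨x', hx'⟩ := h x
    exact ⟨x', by rw [hF.conj_ten, hx', hF.flip]⟩

/-- **Proper overgroups for `k ≥ 6` stabilise the pair of factors.** -/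
theorem le_nr_six (h6 : 6 ≤ k) (hne : ¬ Cfsg.Omega F ⇑Q ≤ M)
    (hmem : ∀ g ∈ Cfsg.Omega F ⇑Q, g ∈ hF.Nr → g ∈ M) (hle : M ≤ Cfsg.Omega F ⇑Q) : M ≤ hF.Nr :=
  (hF.gctx_of_proper (fun h => absurd h (by omega)) hne hmem hle).le_nr_of_six h6

end Fl

end CfsgLib.TWGap
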