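import Cfsg.Agent.TensorWreathOrth.Gap.Setup

/-!
# Unipotent elements of the stabiliser: factors and fixed spaces
-/

set_option autoImplicit false
set_option linter.unusedSectionVars false

namespace CfsgLib.TWGap

open Matrix Module CfsgLib.Spinor CfsgLib.OrthMax CfsgLib.TensorOrth
open CfsgLib.TensorMax (Idx ten ten_add_left ten_add_right ten_smul_left ten_smul_right ten_eq_zero
  ten_inj_left ten_inj_right)
open CfsgLib.TensorUnitary (ten_induction rowsIn finrank_rowsIn ten_mem_rowsIn)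

variable {F : Type*} [Field F] [Fintype F] {k : ℕ} {Q : QuadraticForm F (Idx k k → F)}
  {B₁ B₂ : LinearMap.BilinForm F (Fin k → F)} {J : Isom Q}

/-- A map intertwining nilpotent operators is determined on a supplement of the image. -/
theorem eq_zero_of_intertwine {V : Type*} [AddCommGroup V] [Module F V] (Φ T N : V →ₗ[F] V) {n : ℕ}
    (hN : N ^ n = 0) (hc : ∀ x, Φ (T x) = N (Φ x)) {U : Submodule F V} (hU : U ⊔ LinearMap.range T = ⊤)
    (h0 : ∀ x ∈ U, Φ x = 0) : Φ = 0 := by
  have key : ∀ (j : ℕ) (v : V), ∃ w, Φ v = (N ^ j) (Φ w) := fun j => by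
    induction j with
    | zero => exact fun v => ⟨v, by simp⟩
    | succ j ih =>
      intro v
      obtain ⟨w, hw⟩ := ih v
      obtain ⟨a, ha, b, ⟨w', rfl⟩, rfl⟩ := Submodule.mem_sup.1 (show w ∈ U ⊔ LinearMap.range T by rw [hU]; trivial)
      refine ⟨w', ?_⟩
      rw [hw, map_add, h0 a ha, zero_add, hc, pow_succ, Module.End.mul_apply]
  refine LinearMap.ext fun v => ?_
  obtain ⟨w, hw⟩ := key n v
  rw [hw, hN, LinearMap.zero_apply, LinearMap.zero_apply]

namespace Fl

variable (hF : Fl Q B₁ B₂ J)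
include hF

theorem rt_ten {c z : Fin k → F} (hc : B₂ c c = 0) (hz : B₂ z c = 0) (x y : Fin k → F) :
    mat Q (hF.rt hc hz) *ᵥ ten x y = ten x (esie B₂ 1 c z (-B₂ z z / 2) y) := by
  rw [rt, hF.aset.kR_ten, hF.rtI_apply]

theorem rt_sub_mem {c z : Fin k → F} (hc : B₂ c c = 0) (hz : B₂ z c = 0) (v : Idx k k → F) :
    mat Q (hF.rt hc hz) *ᵥ v - v ∈ rowsIn k (Submodule.span F {c, z}) := by
  induction v using ten_induction with
  | hadd v w hv hw =>
    rw [mulVec_add, add_sub_add_comm]; exact Submodule.add_mem _ hv hw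
  | h0 => rw [mulVec_zero, sub_zero]; exact Submodule.zero_mem _
  | h x y =>
    rw [hF.rt_ten, ← CfsgLib.TensorSlice.ten_sub_right, esie_apply]
    refine ten_mem_rowsIn x (Submodule.mem_span_pair.2 ⟨-(1 * B₂ y z) + -B₂ z z / 2 * B₂ y c, B₂ y c, ?_⟩)
    module

theorem rt_pow {c z : Fin k → F} (hc : B₂ c c = 0) (hz : B₂ z c = 0) (n : ℕ) :
    hF.rt hc hz ^ n = hF.rt hc (z := (n : F) • z) (by simp [hz]) := by
  induction n with
  | zero =>
    refine hF.ext fun x y => ?_
    rw [pow_zero, mat_one, one_mulVec, hF.rt_ten, esie_apply]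
    simp
  | succ n ih =>
    rw [pow_succ, ih]
    refine hF.ext fun x y => ?_
    rw [mul_vec, hF.rt_ten, hF.rt_ten, hF.rt_ten, hF.aset.tset.f₂.esie_comp hc hz (by simp [hz])]
    congr 1
    rw [esie_apply, esie_apply]
    have := hF.aset.two
    simp only [map_add, map_smul, LinearMap.add_apply, LinearMap.smul_apply, smul_eq_mul, one_mul, Nat.cast_succ]
    match_scalars <;> field_simp <;> ring

theorem rt_pow_char {p : ℕ} [CharP F p] {c z : Fin k → F} (hc : B₂ c c = 0) (hz : B₂ z c = 0) :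
    hF.rt hc hz ^ p = 1 := by
  rw [hF.rt_pow]
  refine hF.ext fun x y => ?_
  rw [hF.rt_ten, mat_one, one_mulVec, esie_apply]
  simp

/-- The factors of an element of order `p` in `Kr` can be taken unipotent isometries. -/
theorem exists_unipotent_factors {p : ℕ} [Fact p.Prime] [CharP F p] {u : Isom Q} (hu : u ∈ Kr Q)
    (hup : u ^ p = 1) : ∃ A B : Matrix (Fin k) (Fin k) F,
      (∀ x y, mat Q u *ᵥ ten x y = ten (A *ᵥ x) (B *ᵥ y)) ∧
      (∀ x x', B₂ (A *ᵥ x) (A *ᵥ x') = B₂ x x') ∧ (∀ y y', B₂ (B *ᵥ y) (B *ᵥ y') = B₂ y y') ∧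
      (A - 1) ^ p = 0 ∧ (B - 1) ^ p = 0 := by
  have : Nonempty (Fin k) := ⟨⟨0, hF.kpos⟩⟩
  obtain ⟨A₀, B₀, μ, hμ, hv, hA₀, hB₀⟩ := hF.kr_sim hu
  set A := (A₀ : Matrix (Fin k) (Fin k) F)
  set B := (B₀ : Matrix (Fin k) (Fin k) F)
  have hpow : ∀ (n : ℕ) x y, mat Q (u ^ n) *ᵥ ten x y = ten ((A ^ n) *ᵥ x) ((B ^ n) *ᵥ y) := fun n => by
    induction n with
    | zero => intro x y; simp [mat_one]
    | succ n ih => intro x y; rw [pow_succ, mul_vec, hv, ih, mulVec_mulVec, mulVec_mulVec, ← pow_succ, ← pow_succ]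
  have hp1 : ∀ x y, ten ((A ^ p) *ᵥ x) ((B ^ p) *ᵥ y) = ten x y := fun x y => by
    rw [← hpow, hup, mat_one, one_mulVec]
  set e : Fin k → F := Pi.single ⟨0, hF.kpos⟩ 1
  set i : Fin k := ⟨0, hF.kpos⟩
  have ha : ((A ^ p) *ᵥ e) i ≠ 0 := fun h0 => by
    have := congrFun (hp1 e e) (i, i)
    simp only [ten, h0, zero_mul] at this
    simp [e, i] at this
  set r := (((A ^ p) *ᵥ e) i)⁻¹ with hr
  have hBp : ∀ y, (B ^ p) *ᵥ y = r • y := fun y => funext fun j => by
    have := congrFun (hp1 e y) (i, j)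
    simp only [ten, e, i, Pi.single_eq_same, one_mul] at this
    rw [Pi.smul_apply, smul_eq_mul, hr, eq_inv_mul_iff_mul_eq₀ ha]
    exact this
  have hr0 : r ≠ 0 := inv_ne_zero ha
  have hAp : ∀ x, (A ^ p) *ᵥ x = r⁻¹ • x := fun x => funext fun j => by
    have := congrFun (hp1 x e) (j, i)
    simp only [ten, hBp, Pi.smul_apply, smul_eq_mul, e, i, Pi.single_eq_same, mul_one] at this
    rw [Pi.smul_apply, smul_eq_mul, eq_inv_mul_iff_mul_eq₀ hr0, mul_comm]
    exact this
  obtain ⟨ν, hν⟩ := Finite.injective_iff_surjective.1 (frobenius_inj F p) r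
  rw [frobenius_def] at hν
  have hν0 : ν ≠ 0 := fun h => hr0 (by rw [← hν, h, zero_pow (Fact.out : p.Prime).ne_zero])
  have hμ' : μ * (ν⁻¹ * ν⁻¹) = 1 := by
    obtain ⟨y₁, hy₁⟩ := hF.aset.tset.f₂.exists_one (show e ≠ 0 by simp [e])
    have hiter : ∀ n : ℕ, B₂ ((B ^ n) *ᵥ y₁) ((B ^ n) *ᵥ e) = μ ^ n := fun n => by
      induction n with
      | zero => simp [hy₁]
      | succ n ih => rw [pow_succ', ← mulVec_mulVec, ← mulVec_mulVec, hB₀, ih, pow_succ']
    have h1 := hiter p
    rw [hBp, hBp, map_smul, map_smul, LinearMap.smul_apply, hy₁, smul_eq_mul, smul_eq_mul, mul_one, ← hν] at h1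
    refine sub_eq_zero.1 ((pow_eq_zero_iff (Fact.out : p.Prime).ne_zero).1 ?_)
    rw [sub_pow_char, one_pow, mul_pow, mul_pow, inv_pow, ← h1]
    field_simp
    ring
  refine ⟨ν • A, ν⁻¹ • B, fun x y => ?_, fun x x' => ?_, fun y y' => ?_, ?_, ?_⟩
  · rw [hv, smul_mulVec, smul_mulVec, ten_smul_left, ten_smul_right, smul_smul, mul_inv_cancel₀ hν0, one_smul]
  · simp only [smul_mulVec, map_smul, LinearMap.smul_apply, smul_eq_mul, hA₀]
    have h2 : μ = ν * ν := by
      have h3 := hμ'
      field_simp at h3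
      linear_combination h3
    rw [h2]; field_simp
  · simp only [smul_mulVec, map_smul, LinearMap.smul_apply, smul_eq_mul, hB₀]
    linear_combination (B₂ y y') * hμ'
  · rw [sub_pow_char_of_commute (p := p) (h := Commute.one_right _), one_pow, smul_pow, hν, sub_eq_zero]
    refine Matrix.ext_iff_mulVec.2 fun x => ?_
    rw [smul_mulVec, hAp, smul_smul, mul_inv_cancel₀ hr0, one_smul, one_mulVec]
  · rw [sub_pow_char_of_commute (p := p) (h := Commute.one_right _), one_pow, smul_pow, inv_pow, hν, sub_eq_zero]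
    refine Matrix.ext_iff_mulVec.2 fun x => ?_
    rw [smul_mulVec, hBp, smul_smul, inv_mul_cancel₀ hr0, one_smul, one_mulVec]

/-- A unipotent isometry of a factor moves at least a plane. -/
theorem two_le_rank {B : Matrix (Fin k) (Fin k) F} (hB : ∀ y y', B₂ (B *ᵥ y) (B *ᵥ y') = B₂ y y') {n : ℕ}
    (hn : (B - 1) ^ n = 0) (hB1 : B ≠ 1) : 2 ≤ finrank F (LinearMap.range (B - 1).mulVecLin) := by
  set T := (B - 1).mulVecLin
  have hBT : ∀ y, B *ᵥ y = y + T y := fun y => by simp [T, sub_mulVec]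
  by_contra hlt
  obtain ⟨x, hx⟩ : ∃ x, T x ≠ 0 := by
    by_contra! h
    exact hB1 (sub_eq_zero.1 (Matrix.ext_iff_mulVec.2 fun y => by rw [zero_mulVec]; exact h y))
  set w := T x with hw
  have hspan : LinearMap.range T = Submodule.span F {w} := (Submodule.eq_of_le_of_finrank_le
    (by rw [Submodule.span_singleton_le_iff_mem]; exact ⟨x, rfl⟩) (by rw [finrank_span_singleton hx]; omega)).symm
  have hall : ∀ y, ∃ a : F, a • w = T y := fun y =>
    Submodule.mem_span_singleton.1 (by rw [← hspan]; exact ⟨y, rfl⟩)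
  obtain ⟨r, hr⟩ := hall w
  have hTw : T w = 0 := by
    have hp : ∀ j, ((B - 1) ^ j) *ᵥ w = r ^ j • w := fun j => by
      induction j with
      | zero => simp
      | succ j ih =>
        rw [pow_succ, ← mulVec_mulVec, show (B - 1) *ᵥ w = r • w from hr.symm, mulVec_smul, ih, smul_smul,
          ← pow_succ']
    have h := hp n
    rw [hn, zero_mulVec, eq_comm, smul_eq_zero, pow_eq_zero_iff'] at h
    rw [← hr, (h.resolve_right hx).1, zero_smul]
  have key : ∀ y (a : F), a • w = T y → a * B₂ x w + B₂ w y + a * B₂ w w = 0 := fun y a ha => by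
    have h := hB x y
    rw [hBT, hBT, ← hw, ← ha] at h
    simp only [map_add, map_smul, LinearMap.add_apply, smul_eq_mul] at h
    linear_combination h
  have hww := key w 0 (by rw [zero_smul, hTw])
  simp only [zero_mul, zero_add, add_zero] at hww
  have hxw := key x 1 (by rw [one_smul])
  rw [one_mul, one_mul, hww, hF.aset.symm₂ w x, add_zero, ← two_mul, mul_eq_zero] at hxw
  refine hx (hF.aset.tset.f₂.sep fun y => ?_)
  obtain ⟨a, ha⟩ := hall y
  have h := key y a ha
  rwa [hxw.resolve_left hF.aset.two, hww, mul_zero, add_zero, zero_add] at h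

/-- An element with two non-trivial unipotent factors moves more than a regular root element. -/
theorem rank_lt (hpl : k = 4 → NoPlane B₂) {u : Isom Q} {A B : Matrix (Fin k) (Fin k) F}
    (huv : ∀ x y, mat Q u *ᵥ ten x y = ten (A *ᵥ x) (B *ᵥ y))
    (hA : ∀ x x', B₂ (A *ᵥ x) (A *ᵥ x') = B₂ x x') (hB : ∀ y y', B₂ (B *ᵥ y) (B *ᵥ y') = B₂ y y') {n : ℕ}
    (hAn : (A - 1) ^ n = 0) (hBn : (B - 1) ^ n = 0) (hA1 : A ≠ 1) (hB1 : B ≠ 1) :
    k * 2 < finrank F (LinearMap.range (mat Q u - 1).mulVecLin) := by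
  classical
  have hs := hF.aset
  have h4 := hF.four
  obtain ⟨κ, hκ, hκv⟩ := hF.prop
  set T := (B - 1).mulVecLin
  set N := (A - 1).mulVecLin
  have hrN := hF.two_le_rank hA hAn hA1
  have hrT := hF.two_le_rank hB hBn hB1
  set K := LinearMap.ker (mat Q u - 1).mulVecLin with hK
  have hKfix : ∀ v ∈ K, mat Q u *ᵥ v = v := fun v hv => by
    have := LinearMap.mem_ker.1 hv
    rwa [mulVecLin_apply, sub_mulVec, one_mulVec, sub_eq_zero] at this
  have htot := LinearMap.finrank_range_add_finrank_ker (mat Q u - 1).mulVecLin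
  rw [Module.finrank_pi, Fintype.card_prod, Fintype.card_fin, ← hK] at htot
  let evL : (Idx k k → F) → (Fin k → F) →ₗ[F] (Fin k → F) := fun v =>
    { toFun := fun w => evB B₂ w v
      map_add' := fun w w' => evB_add_right w w' v
      map_smul' := fun a w => evB_smul_right a w v }
  have hAinj : Function.Injective (fun x => A *ᵥ x) := fun x x' h => by
    refine sub_eq_zero.1 (hs.tset.f₂.sep fun z => ?_)
    rw [← hA, mulVec_sub, sub_eq_zero.2 h, map_zero, LinearMap.zero_apply]
  have hint : ∀ v ∈ K, ∀ w, evL v (T w) = N (evL v w) := fun v hv w => by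
    have e : evB B₂ (B *ᵥ w) v = A *ᵥ evB B₂ w v := by
      refine sub_eq_zero.1 (hs.tset.f₁.sep fun x' => ?_)
      obtain ⟨x, rfl⟩ : ∃ x, A *ᵥ x = x' :=
        LinearMap.surjective_of_injective (f := A.mulVecLin) hAinj x'
      rw [map_sub, LinearMap.sub_apply, ← hs.tset.polar_ten, ← huv, hκv (A *ᵥ evB B₂ w v), hA, ← hκv,
        ← hs.tset.polar_ten]
      conv_lhs => arg 1; rw [← hKfix v hv, polar_mulVec]
      rw [sub_self]
    show evB B₂ ((B - 1) *ᵥ w) v = (A - 1) *ᵥ evB B₂ w v
    rw [sub_mulVec, sub_mulVec, one_mulVec, one_mulVec, ← e, sub_eq_add_neg, ← neg_one_smul F w, evB_add_right,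
      evB_smul_right, neg_one_smul, sub_eq_add_neg]
  have hNn : N ^ n = 0 := by
    refine LinearMap.ext fun x => ?_
    have e : ∀ j, (N ^ j) x = ((A - 1) ^ j) *ᵥ x := fun j => by
      induction j with
      | zero => simp
      | succ j ih => rw [pow_succ', Module.End.mul_apply, ih, pow_succ', ← mulVec_mulVec]; rfl
    rw [e, hAn, zero_mulVec, LinearMap.zero_apply]
  have hinj : ∀ v ∈ K, ∀ U : Submodule F (Fin k → F), U ⊔ LinearMap.range T = ⊤ → (∀ x ∈ U, evL v x = 0) → v = 0 := by
    intro v hv U hU h0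
    have h1 := eq_zero_of_intertwine (evL v) T N hNn (hint v hv) hU h0
    refine hs.tset.nondeg.1 v fun w => ?_
    induction w using ten_induction with
    | hadd a b ha hb => rw [map_add, ha, hb, add_zero]
    | h0 => rw [map_zero]
    | h x y =>
      rw [QuadraticMap.polarBilin_apply_apply, hs.tset.polar_ten, show evB B₂ y v = 0 from LinearMap.congr_fun h1 y,
        map_zero, LinearMap.zero_apply]
  have hTdim := LinearMap.finrank_range_add_finrank_ker T
  rw [Module.finrank_fin_fun] at hTdim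
  have hNdim := LinearMap.finrank_range_add_finrank_ker N
  rw [Module.finrank_fin_fun] at hNdim
  set rT := finrank F (LinearMap.range T)
  set rN := finrank F (LinearMap.range N)
  obtain ⟨U, hU⟩ := Submodule.exists_isCompl (LinearMap.range T)
  have hUd := Submodule.finrank_add_eq_of_isCompl hU
  rw [Module.finrank_fin_fun] at hUd
  change rT + finrank F U = k at hUd
  have hb1 : finrank F K ≤ finrank F U * k := by
    let Ψ : K →ₗ[F] (U →ₗ[F] (Fin k → F)) :=
      { toFun := fun v => (evL v.1).comp U.subtype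
        map_add' := fun v v' => LinearMap.ext fun w => map_add (evB B₂ w.1) v.1 v'.1
        map_smul' := fun a v => LinearMap.ext fun w => map_smul (evB B₂ w.1) a v.1 }
    have hΨ : Function.Injective Ψ := by
      rw [← LinearMap.ker_eq_bot, LinearMap.ker_eq_bot']
      exact fun v hv => Subtype.ext (hinj v.1 v.2 U (by rw [sup_comm]; exact hU.sup_eq_top)
        fun x hx => LinearMap.congr_fun hv ⟨x, hx⟩)
    have := LinearMap.finrank_le_finrank_of_injective hΨ
    rwa [Module.finrank_linearMap, Module.finrank_fin_fun] at this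
  by_cases hle : LinearMap.ker T ≤ LinearMap.range T
  · have h2 := Submodule.finrank_mono hle
    by_contra hcon
    push Not at hcon
    have hr2 : rT = 2 := by
      by_contra hne
      have h3 : 3 * k ≤ rT * k := Nat.mul_le_mul_right k (by omega)
      have h5 : k * k = rT * k + finrank F U * k := by rw [← Nat.add_mul, hUd]
      omega
    have hk4 : k = 4 := by omega
    have heq : LinearMap.ker T = LinearMap.range T :=
      Submodule.eq_of_le_of_finrank_le hle (by change rT ≤ _; omega)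
    have hBT : ∀ y, B *ᵥ y = y + T y := fun y => by simp [T, sub_mulVec]
    have hTT : ∀ y, T (T y) = 0 := fun y => LinearMap.mem_ker.1 (heq.symm ▸ ⟨y, rfl⟩)
    have hsing : ∀ a b, B₂ (T a) (T b) = 0 := fun a b => by
      have h := hB a (T b)
      rw [hBT, hBT, hTT, add_zero, map_add, LinearMap.add_apply] at h
      linear_combination h
    obtain ⟨a, b, hab⟩ : ∃ a b, T a ≠ 0 ∧ ∀ s : F, s • T a ≠ T b := by
      by_contra! hall
      obtain ⟨a, ha⟩ : ∃ a, T a ≠ 0 := by
        by_contra! h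
        have : rT = 0 := Submodule.finrank_eq_zero.2 (LinearMap.range_eq_bot.2 (LinearMap.ext h))
        omega
      have hle' : LinearMap.range T ≤ Submodule.span F {T a} := by
        rintro _ ⟨b, rfl⟩
        exact Submodule.mem_span_singleton.2 (hall a b ha)
      have := Submodule.finrank_mono hle'
      rw [finrank_span_singleton ha] at this
      change rT ≤ 1 at this
      omega
    obtain ⟨s, hs'⟩ := hpl hk4 (T a) (T b) hab.1 (hsing a a) (hsing b b) (hsing a b)
    exact hab.2 s hs'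
  · obtain ⟨g, hgk, hgr⟩ := SetLike.not_le_iff_exists.1 hle
    set R := LinearMap.range T ⊔ Submodule.span F {g}
    obtain ⟨W, hW⟩ := Submodule.exists_isCompl R
    have hWd := Submodule.finrank_add_eq_of_isCompl hW
    rw [Module.finrank_fin_fun] at hWd
    have hR : rT < finrank F R := Submodule.finrank_lt_finrank_of_lt (left_lt_sup.2 fun h =>
      hgr (h (Submodule.mem_span_singleton_self g)))
    have hker : ∀ v : K, evL v.1 g ∈ LinearMap.ker N := fun v => by
      rw [LinearMap.mem_ker, ← hint v.1 v.2, LinearMap.mem_ker.1 hgk, map_zero]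
    let Ψ : K →ₗ[F] (LinearMap.ker N × (W →ₗ[F] (Fin k → F))) :=
      { toFun := fun v => (⟨evL v.1 g, hker v⟩, (evL v.1).comp W.subtype)
        map_add' := fun v v' => Prod.ext (Subtype.ext (map_add (evB B₂ g) v.1 v'.1))
          (LinearMap.ext fun w => map_add (evB B₂ w.1) v.1 v'.1)
        map_smul' := fun a v => Prod.ext (Subtype.ext (map_smul (evB B₂ g) a v.1))
          (LinearMap.ext fun w => map_smul (evB B₂ w.1) a v.1) }
    have hΨ : Function.Injective Ψ := by
      rw [← LinearMap.ker_eq_bot, LinearMap.ker_eq_bot']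
      intro v hv
      refine Subtype.ext (hinj v.1 v.2 (Submodule.span F {g} ⊔ W) ?_ fun x hx => ?_)
      · rw [sup_comm, ← sup_assoc]; exact hW.sup_eq_top
      · obtain ⟨a, ha, b, hb, rfl⟩ := Submodule.mem_sup.1 hx
        obtain ⟨r, rfl⟩ := Submodule.mem_span_singleton.1 ha
        have e1 : evL v.1 g = 0 := congrArg (fun q => (q.1 : Fin k → F)) hv
        have e2 : evL v.1 b = 0 := LinearMap.congr_fun (congrArg Prod.snd hv) ⟨b, hb⟩
        rw [map_add, map_smul, e1, e2, smul_zero, add_zero]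
    have h := LinearMap.finrank_le_finrank_of_injective hΨ
    rw [Module.finrank_prod, Module.finrank_linearMap, Module.finrank_fin_fun] at h
    have h5 : (finrank F W + 3) * k ≤ k * k := Nat.mul_le_mul_right k (by omega)
    rw [Nat.add_mul] at h5
    omega

end Fl

end CfsgLib.TWGap
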